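import Cfsg.Agent.FiLarge.Thom.Mathieu
import Cfsg.Agent.FiLarge.ElevenMain

/-!
The Thompson subgroup of a group of large Fischer type and its normaliser.
-/

set_option autoImplicit false
set_option maxRecDepth 100000
set_option linter.style.haveILetI false

namespace CfsgLib.FiLarge.Thom

open CfsgLib Subgroup
open scoped Pointwise
open CfsgLib.FiLarge.Dat (val)

variable {G : Type*} [Group G] [Finite G] {z : G} {Q : Subgroup (centralizer ({z} : Set G))} [Q.Normal]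

theorem exists_setting (hF : Cfsg.IsOfLargeFischerTypeAt z Q) :
    ∃ (D : Dat z Q) (gs : G) (s : Q), gs * z * gs⁻¹ = val s ∧ val s ≠ z := by
  obtain ⟨D⟩ := exists_dat hF
  obtain ⟨⟨-, -, -, -, g, ⟨hq, hqQ⟩, hne⟩, -⟩ := hF
  exact ⟨D, g, ⟨⟨_, hq⟩, hqQ⟩, rfl, hne⟩

theorem uniq_of (hF : Cfsg.IsOfLargeFischerTypeAt z Q) : Uniq z := fun T => by
  obtain ⟨A, h1, h2, -, -⟩ := exists_eleven hF T
  exact ⟨A, h1, h2⟩

/-- The facts about the Thompson subgroup and its normaliser. -/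
theorem thompson_main (hF : Cfsg.IsOfLargeFischerTypeAt z Q) (T : Sylow 2 G) (A M : Subgroup G)
    (hA : A = Cfsg.thompsonSubgroupOf 2 (T : Subgroup G)) (hM : M = normalizer (A : Set G)) :
    Cfsg.IsElementaryAbelian 2 A ∧ Nat.card A = 2 ^ 11 ∧
      (∀ a ∈ A, ∀ g : G, g * a * g⁻¹ ∈ A → ∃ m ∈ M, m * a * m⁻¹ = g * a * g⁻¹) ∧
      (∃ a ∈ A, a ≠ 1 ∧ IsConj z a) ∧ (∃ a ∈ A, a ≠ 1 ∧ ¬ IsConj z a) ∧
      (∀ a ∈ A, ∀ b ∈ A, a ≠ 1 → b ≠ 1 → (IsConj z a ↔ IsConj z b) → ∃ m ∈ M, m * a * m⁻¹ = b) ∧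
      ∃ φ : ↥M →* Cfsg.M24, Function.Surjective φ ∧ (∀ m, φ m = 1 ↔ (m : G) ∈ A) ∧
        ∀ t ∈ A, t ≠ 1 → ¬ IsConj z t → ∃ p q : Cfsg.GolayPt, p ≠ q ∧ ∀ m : M,
          ((m : G) * t * (m : G)⁻¹ = t ↔
            (φ m : Equiv.Perm Cfsg.GolayPt) • ({p, q} : Set Cfsg.GolayPt) = {p, q}) := by
  obtain ⟨D, gs, s, hgs, hsz⟩ := exists_setting hF
  have hu := uniq_of hF
  have hinv := hinv_of D hgs hsz
  obtain ⟨g, hg⟩ := thompson_conj D hinv hu T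
  rw [hg] at hA
  subst hA hM
  set B := (A0 D).map (MulAut.conj g).toMonoidHom
  have hB : ∀ x, x ∈ B ↔ g⁻¹ * x * g ∈ A0 D := fun x => by
    constructor
    · rintro ⟨a, ha, rfl⟩
      simpa [mul_assoc] using ha
    · exact fun h => ⟨_, h, by simp [mul_assoc]⟩
  have hN : ∀ m, m ∈ normalizer (B : Set G) ↔ g⁻¹ * m * g ∈ normalizer (A0 D : Set G) := fun m => by
    rw [mem_normalizer_iff, mem_normalizer_iff]
    constructor
    · intro h x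
      have := h (g * x * g⁻¹)
      rw [hB, hB] at this
      simpa [mul_assoc] using this
    · intro h x
      rw [hB, hB, h (g⁻¹ * x * g)]
      simp [mul_assoc]
  have hz : ∀ x, IsConj z (g⁻¹ * x * g) ↔ IsConj z x := fun x => by
    rw [← conj_z_conj g, show g * (g⁻¹ * x * g) * g⁻¹ = x by group]
  have hnS : ∀ x ∈ B, x ≠ 1 → ¬ IsConj z x → g⁻¹ * x * g ∈ nS D := fun x hx h1 hn =>
    (mem_nS D).2 ⟨(hB x).1 hx, fun e => h1 (by
      rw [show x = g * (g⁻¹ * x * g) * g⁻¹ by group, e, mul_one, mul_inv_cancel]), fun h => hn ((hz x).1 h)⟩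
  have hfus : ∀ a ∈ B, ∀ k : G, k * a * k⁻¹ ∈ B →
      ∃ m ∈ normalizer (B : Set G), m * a * m⁻¹ = k * a * k⁻¹ := by
    intro a ha k hk
    obtain ⟨m, hm, e⟩ := fusion D hinv hu ((hB a).1 ha) (g := g⁻¹ * k * g) (by
      have := (hB _).1 hk
      rwa [show g⁻¹ * k * g * (g⁻¹ * a * g) * (g⁻¹ * k * g)⁻¹ = g⁻¹ * (k * a * k⁻¹) * g by group])
    refine ⟨g * m * g⁻¹, (hN _).2 (by rwa [show g⁻¹ * (g * m * g⁻¹) * g = m by group]), ?_⟩
    rw [show g * m * g⁻¹ * a * (g * m * g⁻¹)⁻¹ = g * (m * (g⁻¹ * a * g) * m⁻¹) * g⁻¹ by group, e]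
    group
  obtain ⟨φ0, hsurj, hker, hpair⟩ := exists_map D hgs hsz hu
  have hzB : g * z * g⁻¹ ∈ B := ⟨z, R0_le_A0 D (z_mem_R0 D), rfl⟩
  obtain ⟨t0, ht0⟩ := Finset.card_pos.1 (show 0 < (nS D).card by rw [card_nS D hgs hsz hu]; norm_num)
  refine ⟨isElementaryAbelian_iff.2 ?_, ?_, hfus, ⟨_, hzB, fun e => z_ne D (conj_eq_one_iff.1 e),
    isConj_iff.2 ⟨g, rfl⟩⟩, ⟨g * t0 * g⁻¹, ⟨t0, ((mem_nS D).1 ht0).1, rfl⟩,
      fun e => ((mem_nS D).1 ht0).2.1 (conj_eq_one_iff.1 e),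
      fun h => ((mem_nS D).1 ht0).2.2 ((conj_z_conj g t0).1 h)⟩, ?_, ?_⟩
  · rintro _ ⟨a, ha, rfl⟩
    rw [← map_mul, sq_A0 D hgs hsz ha, map_one]
  · rw [card_map_of_injective (MulEquiv.injective _), (card_A0 D hinv).1]
  · intro a ha b hb ha1 hb1 hab
    by_cases hc : IsConj z a
    · obtain ⟨k, rfl⟩ := isConj_iff.1 (hc.symm.trans (hab.1 hc))
      exact hfus a ha k hb
    · obtain ⟨m, hm, e⟩ := nS_move D hgs hsz hu (hnS a ha ha1 hc) (hnS b hb hb1 fun h => hc (hab.2 h))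
      refine ⟨g * m * g⁻¹, (hN _).2 (by rwa [show g⁻¹ * (g * m * g⁻¹) * g = m by group]), ?_⟩
      rw [show g * m * g⁻¹ * a * (g * m * g⁻¹)⁻¹ = g * (m * (g⁻¹ * a * g) * m⁻¹) * g⁻¹ by group, e]
      group
  · let ψ : ↥(normalizer (B : Set G)) →* ↥(normalizer (A0 D : Set G)) :=
      { toFun := fun m => ⟨g⁻¹ * m * g, (hN m).1 m.2⟩
        map_one' := Subtype.ext (by simp)
        map_mul' := fun a b => Subtype.ext (by
          show g⁻¹ * ((a : G) * b) * g = g⁻¹ * a * g * (g⁻¹ * b * g)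
          group) }
    refine ⟨φ0.comp ψ, hsurj.comp fun m => ⟨⟨g * m * g⁻¹, (hN _).2 (by
      rw [show g⁻¹ * (g * (m : G) * g⁻¹) * g = m by group]; exact m.2)⟩, Subtype.ext (by
        show g⁻¹ * (g * (m : G) * g⁻¹) * g = m; group)⟩, fun m => (hker (ψ m)).trans (hB _).symm, ?_⟩
    intro t ht ht1 htn
    obtain ⟨p, q, hpq, h⟩ := hpair _ (hnS t ht ht1 htn)
    refine ⟨p, q, hpq, fun m => ?_⟩
    rw [show ((φ0.comp ψ) m : Equiv.Perm Cfsg.GolayPt) • ({p, q} : Set Cfsg.GolayPt) =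
      {(φ0 (ψ m) : Equiv.Perm Cfsg.GolayPt) p, (φ0 (ψ m) : Equiv.Perm Cfsg.GolayPt) q} by
        rw [Set.smul_set_insert, Set.smul_set_singleton]; rfl, Set.pair_eq_pair_iff]
    refine Iff.trans ?_ (h (ψ m))
    show _ ↔ g⁻¹ * (m : G) * g * (g⁻¹ * t * g) * (g⁻¹ * (m : G) * g)⁻¹ = g⁻¹ * t * g
    rw [show g⁻¹ * (m : G) * g * (g⁻¹ * t * g) * (g⁻¹ * (m : G) * g)⁻¹ =
      g⁻¹ * ((m : G) * t * (m : G)⁻¹) * g by group]
    exact ⟨fun e => by rw [e], fun e => mul_left_cancel (mul_right_cancel e)⟩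

/-- The stabiliser of a two-element set. -/
theorem exists_stab_map {p q : Cfsg.GolayPt} (hpq : p ≠ q) : ∃ c : Cfsg.M24, ∀ x : Cfsg.M24,
    (x : Equiv.Perm Cfsg.GolayPt) • ({p, q} : Set Cfsg.GolayPt) = {p, q} ↔
      ((c * x * c⁻¹ : Cfsg.M24) : Equiv.Perm Cfsg.GolayPt) ∈
        MulAction.stabilizer (Equiv.Perm Cfsg.GolayPt) ({none, some 0} : Set Cfsg.GolayPt) := by
  haveI := Golay.two_transitive
  obtain ⟨c, h1, h2⟩ := MulAction.is_two_pretransitive_iff.1 Golay.two_transitive hpq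
    (c := (none : Cfsg.GolayPt)) (d := some 0) (Option.some_ne_none _).symm
  refine ⟨c, fun x => ?_⟩
  have e : ((c : Equiv.Perm Cfsg.GolayPt) • ({p, q} : Set Cfsg.GolayPt)) = {none, some 0} := by
    rw [Set.smul_set_insert, Set.smul_set_singleton]
    show ({c • p, c • q} : Set Cfsg.GolayPt) = _
    rw [h1, h2]
  rw [MulAction.mem_stabilizer_iff, ← e, Subgroup.coe_mul, Subgroup.coe_mul, Subgroup.coe_inv, smul_smul,
    inv_mul_cancel_right, mul_smul, smul_left_cancel_iff]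

end CfsgLib.FiLarge.Thom
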