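import Cfsg.Agent.FiLarge.Thom.Setup

/-!
Conjugacy classes on the subgroup of order `2^11`.
-/

set_option autoImplicit false
set_option quotPrecheck false
set_option maxRecDepth 100000
set_option linter.style.haveILetI false
set_option linter.unusedSectionVars false

namespace CfsgLib.FiLarge.Thom

open CfsgLib Subgroup
open CfsgLib.FiLarge.Dat (val)

/-- The trace of the double transposition in the plane. -/
def InL (a : V6) : Prop := InW a ∧ a 4 = 0

instance (a : V6) : Decidable (InL a) := by unfold InL; infer_instance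

theorem inL_count : (Finset.univ.filter fun t : F4 × F4 × F4 => InL (w3 t.1 t.2.1 t.2.2)).card = 16 := by
  decide +kernel

theorem inL_count_not :
    (Finset.univ.filter fun t : F4 × F4 × F4 => ¬ InL (w3 t.1 t.2.1 t.2.2)).card = 48 := by
  decide +kernel

theorem off_vector : ∀ a b c : F4, c ≠ 0 → qn (![0, 0, 0, 0, om * c, 0] + w3 a b c) ≠
    qn ![0, 0, 0, 0, om * c, 0] + qn (w3 a b c) := by decide +kernel

variable {G : Type*} [Group G] [Finite G] {z : G} {Q : Subgroup (centralizer ({z} : Set G))} [Q.Normal]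
  (D : Dat z Q)

local notation "HH" => centralizer ({z} : Set G)
local notation "mk" => QuotientGroup.mk' Q

include D in
/-- A conjugate of `z` in `Q` other than `z` inverts the scalar. -/
theorem hinv_of {g : G} {s : Q} (hg : g * z * g⁻¹ = val s) (hsz : val s ≠ z) :
    ∃ y, y * D.T.x * y⁻¹ = D.T.x⁻¹ :=
  D.exists_inverting hg (fun e => z_ne D (conj_eq_one_iff.1 (hg.trans e))) hsz

theorem small_not_z {a : Q} (ha : D.π a ∈ D.T.orb ⊤ v2) : ¬ IsConj z (val a) := by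
  intro h
  obtain ⟨g, hg⟩ := isConj_iff.1 h
  have h0 : D.π a ≠ 0 := fun e => by
    obtain ⟨c, -, hc⟩ := D.T.mem_orb.1 ha
    rw [e] at hc
    exact Std.v2_sing.2 ((LinearEquiv.map_eq_zero_iff _).1 hc)
  exact (D.pair_main hg (fun e => h0 ((D.π_eq_zero a).2 (Or.inl e)))
    (fun e => h0 ((D.π_eq_zero a).2 (Or.inr e)))).1 ha

theorem small_conj {a b : Q} (ha : D.π a ∈ D.T.orb ⊤ v2) (hb : D.π b ∈ D.T.orb ⊤ v2) :
    IsConj (val a) (val b) := by
  obtain ⟨c, -, hc⟩ := D.T.mem_orb.1 ha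
  obtain ⟨d, -, hd⟩ := D.T.mem_orb.1 hb
  have h0 : D.π b ≠ 0 := by rw [← hd]; exact (LinearEquiv.map_ne_zero_iff _).2 Std.v2_sing.2
  obtain ⟨k, -, hk⟩ := D.exists_conj (x := d * c⁻¹) (a := a) (b := b)
    (fun e => h0 ((D.π_eq_zero b).2 (Or.inl e))) (fun e => h0 ((D.π_eq_zero b).2 (Or.inr e)))
    (by rw [← hc, ← D.T.r_mul, inv_mul_cancel_right, hd])
  exact isConj_iff.2 ⟨k, hk⟩

variable {gs : G} {s : Q} (hgs : gs * z * gs⁻¹ = val s) (hsz : val s ≠ z)

include hgs hsz in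
theorem large_z {a : Q} (hq : qn (D.π a) = 0) (h0 : D.π a ≠ 0) (hA : D.π a ∉ D.T.orb ⊤ v2) :
    IsConj z (val a) := by
  have hs1 : val s ≠ 1 := fun e => z_ne D (conj_eq_one_iff.1 (hgs.trans e))
  have hsq : qn (D.π s) = 0 := (D.sq_iff s).1 (Subtype.ext (Subtype.ext (D.pre' hgs).gen.sq))
  obtain ⟨c, hc⟩ := D.T.large_trans hsq (D.π_ne_zero hs1 hsz) (D.pair_main hgs hs1 hsz).1 hq h0 hA
  obtain ⟨k, -, hk⟩ := D.exists_conj (a := s) (b := a) (fun e => h0 ((D.π_eq_zero a).2 (Or.inl e)))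
    (fun e => h0 ((D.π_eq_zero a).2 (Or.inr e))) hc
  exact (isConj_iff.2 ⟨gs, hgs⟩).trans (isConj_iff.2 ⟨k, hk⟩)

include hgs hsz in
/-- The class of an element over the plane. -/
theorem R0_class {a : Q} (ha : InW (D.π a)) (h0 : D.π a ≠ 0) :
    IsConj z (val a) ↔ D.π a ∉ D.T.orb ⊤ v2 :=
  ⟨fun h hin => small_not_z D hin h, large_z D hgs hsz (qn_inW ha) h0⟩

theorem commute_z {a : G} (ha : a ∈ A0 D) : Commute a z :=
  (mem_centralizer_iff.1 ha z (z_mem_R0 D)).symm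

include D in
theorem commute_zQ (q : Q) : Commute (val q) z :=
  (D.pre.gen.comm_z _ (mem_map_of_mem _ q.2))

theorem conj_mul_z {c a b : G} (hc : Commute c z) (h : c * a * c⁻¹ = b) : c * (a * z) * c⁻¹ = b * z := by
  rw [← h, show c * (a * z) * c⁻¹ = c * a * c⁻¹ * (c * z * c⁻¹) by group, hc.eq, mul_inv_cancel_right]

/-- A chosen element over the double transposition, centralised by an element over the scalar. -/
structure Rep where
  /-- The element. -/
  e : G
  mem : e ∈ A0 D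
  /-- The element over the scalar. -/
  y : HH
  /-- The scalar. -/
  w : F4
  w_eq : w = om ∨ w = om * om
  yN : (y : G) ∈ N0 D
  yπ : ∀ a : Q, D.π (MulAut.conjNormal y a) = w • D.π a
  yfix : (y : G) * e * (y : G)⁻¹ = e
  eact : ∀ v, D.T.r (mk ⟨e, A0_le_cz D mem⟩) v = ![v 1, v 0, v 3, v 2, v 4, v 5]

theorem exists_rep (hinv : ∃ y, y * D.T.x * y⁻¹ = D.T.x⁻¹) : Nonempty (Rep D) := by
  obtain ⟨y, w, hy3, hw, hyN, hyc, hyπ⟩ := exists_y D
  obtain ⟨a0, ha0, h0⟩ := exists_a0 D.T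
  obtain ⟨l0, hl0⟩ := exists_over D hinv ha0
  obtain ⟨r, hr, he⟩ := exists_fixed D hy3 hw hyN hyc hyπ l0.2
  refine ⟨⟨(l0 : G) * r, mul_mem l0.2 (R0_le_A0 D hr), y, w, hw, hyN, hyπ, he, fun v => ?_⟩⟩
  have hb : bar D ⟨_, mul_mem l0.2 (R0_le_A0 D hr)⟩ = a0 := by
    rw [show (⟨_, mul_mem l0.2 (R0_le_A0 D hr)⟩ : A0 D) = l0 * ⟨r, R0_le_A0 D hr⟩ from rfl, map_mul,
      (bar_eq_one D (a := ⟨r, R0_le_A0 D hr⟩)).2 hr, mul_one, hl0]
  rw [← bar_mk D ⟨_, mul_mem l0.2 (R0_le_A0 D hr)⟩, hb]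
  exact h0 v

variable (P : Rep D)

theorem Rep.conj_Q (q : Q) : ∃ k : Q, val q * P.e * (val q)⁻¹ = P.e * val k ∧
    D.π k = ![D.π q 1, D.π q 0, D.π q 3, D.π q 2, D.π q 4, D.π q 5] + D.π q := by
  let c : HH := ⟨P.e, A0_le_cz D P.mem⟩
  refine ⟨MulAut.conjNormal c⁻¹ q * q⁻¹, ?_, ?_⟩
  · show _ = P.e * ((P.e)⁻¹ * val q * ((P.e)⁻¹)⁻¹ * (val q)⁻¹)
    group
  · rw [D.π_mul, π_inv D, D.act]
    congr 1
    rw [← P.eact]
    show D.T.r (mk c⁻¹) _ = _
    rw [map_inv, inv_eq_of_mul_eq_one_right (fix_sq D.T (mk_fix D (c := c) P.mem))]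

theorem Rep.conj_R0 (q : Q) {r : G} (hr : r ∈ R0 D) :
    val q * r * (val q)⁻¹ = r ∨ val q * r * (val q)⁻¹ = r * z := by
  obtain ⟨a, rfl, -⟩ := hr
  exact eq_mul_z D a (MulAut.conjNormal (q : HH) a) rfl rfl (by rw [D.act]; exact (D.π_inner q a).symm)

/-- Over the trace only two classes occur, interchanged by `z`. -/
theorem Rep.in_L {r : G} (hr : r ∈ R0 D) {a : Q} (ha : val a = r) (hL : InL (D.π a)) :
    (IsConj P.e (P.e * r) ∧ IsConj (P.e * z) (P.e * r * z)) ∨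
      (IsConj (P.e * z) (P.e * r) ∧ IsConj P.e (P.e * r * z)) := by
  obtain ⟨q, hq⟩ := D.π_surj ![D.π a 0, 0, D.π a 2, 0, 0, 0]
  obtain ⟨k, hk, hkπ⟩ := Rep.conj_Q D P q
  have e : D.π k = D.π a := by
    rw [hkπ, hq]
    obtain ⟨⟨h1, h2, h3⟩, h4⟩ := hL
    funext i
    fin_cases i <;> simp [← h1, ← h2, h4, ← h3]
  have hc := commute_zQ D q
  have h' := conj_mul_z hc hk
  rcases D.eq_of_π e with e' | e'
  · rw [ha] at e'
    refine Or.inl ⟨isConj_iff.2 ⟨val q, by rw [hk, e']⟩, isConj_iff.2 ⟨val q, by rw [h', e']⟩⟩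
  · rw [ha] at e'
    have e2 : P.e * val k * z = P.e * r := by rw [mul_assoc, e']
    refine Or.inr ⟨isConj_iff.2 ⟨val q, by rw [h', e2]⟩, isConj_iff.2 ⟨val q, ?_⟩⟩
    rw [hk, mul_assoc P.e r z, e', mul_assoc (val k) z z, z_sq D, mul_one]

/-- An element over zero on the moved pairs centralises the representative. -/
theorem Rep.fix_of_zero {q : Q} (h0 : D.π q 0 = 0) (h1 : D.π q 1 = 0) (h2 : D.π q 2 = 0) (h3 : D.π q 3 = 0) :
    val q * P.e * (val q)⁻¹ = P.e := by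
  have he : ∀ q : Q, D.π q 0 = 0 → D.π q 1 = 0 → D.π q 2 = 0 → D.π q 3 = 0 →
      val q * P.e * (val q)⁻¹ = P.e ∨ val q * P.e * (val q)⁻¹ = P.e * z := by
    intro q h0 h1 h2 h3
    obtain ⟨k, hk, hkπ⟩ := Rep.conj_Q D P q
    have : D.π k = 0 := by
      rw [hkπ]; funext i
      fin_cases i <;> simp [h0, h1, h2, h3, add_self_F4]
    rcases (D.π_eq_zero k).1 this with e | e <;> rw [hk, show val k = _ from e]
    exacts [Or.inl (mul_one _), Or.inr rfl]
  refine (he q h0 h1 h2 h3).resolve_right fun h => ?_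
  have hy : Commute (P.y : G) z := mul_inv_eq_iff_eq_mul.1 (N0_fix_z D P.yN)
  let q1 := MulAut.conjNormal P.y q
  let q2 := MulAut.conjNormal P.y q1
  have step : ∀ u : Q, val u * P.e * (val u)⁻¹ = P.e * z →
      val (MulAut.conjNormal P.y u) * P.e * (val (MulAut.conjNormal P.y u))⁻¹ = P.e * z := by
    intro u hu
    show (P.y : G) * val u * (P.y : G)⁻¹ * P.e * ((P.y : G) * val u * (P.y : G)⁻¹)⁻¹ = _
    have hy' : (P.y : G)⁻¹ * P.e * (P.y : G) = P.e := by
      conv_lhs => rw [← P.yfix]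
      group
    calc (P.y : G) * val u * (P.y : G)⁻¹ * P.e * ((P.y : G) * val u * (P.y : G)⁻¹)⁻¹
        = (P.y : G) * (val u * ((P.y : G)⁻¹ * P.e * (P.y : G)) * (val u)⁻¹) * (P.y : G)⁻¹ := by group
      _ = (P.y : G) * (P.e * z) * (P.y : G)⁻¹ := by rw [hy', hu]
      _ = _ := conj_mul_z hy P.yfix
  have h1 := step q h
  have h2 := step q1 h1
  have hp : D.π (q * q1 * q2) = 0 := by
    rw [D.π_mul, D.π_mul]
    simp only [q2, q1, P.yπ]
    funext i
    exact (by decide +kernel : ∀ w : F4, w = om ∨ w = om * om → ∀ x : F4, x + w * x + w * (w * x) = 0)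
      P.w P.w_eq _
  have hzz : ∀ u : G, u * z * z = u := fun u => by rw [mul_assoc, z_sq D, mul_one]
  have h3 : val (q * q1 * q2) * P.e * (val (q * q1 * q2))⁻¹ = P.e * z := by
    show (val q * val q1 * val q2) * P.e * (val q * val q1 * val q2)⁻¹ = _
    calc (val q * val q1 * val q2) * P.e * (val q * val q1 * val q2)⁻¹
        = val q * (val q1 * (val q2 * P.e * (val q2)⁻¹) * (val q1)⁻¹) * (val q)⁻¹ := by group
      _ = val q * (val q1 * (P.e * z) * (val q1)⁻¹) * (val q)⁻¹ := by rw [h2]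
      _ = val q * (P.e * z * z) * (val q)⁻¹ := by rw [conj_mul_z (commute_zQ D q1) h1]
      _ = _ := by rw [hzz, h]
  rcases (D.π_eq_zero _).1 hp with e | e <;> rw [show val (q * q1 * q2) = _ from e] at h3
  · refine z_ne D (mul_eq_left.1 (h3.symm.trans ?_))
    group
  · refine z_ne D (mul_eq_left.1 (h3.symm.trans ?_))
    rw [← (commute_z D P.mem).eq, mul_inv_cancel_right]

/-- Off the trace the two lifts are conjugate. -/
theorem Rep.flip {r : G} (hr : r ∈ R0 D) {a : Q} (ha : val a = r) (hL : ¬ InL (D.π a)) :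
    IsConj (P.e * r) (P.e * r * z) := by
  have haW : InW (D.π a) := π_mem_R0 D (ha ▸ hr)
  have h4 : D.π a 4 ≠ 0 := fun h => hL ⟨haW, h⟩
  obtain ⟨q, hq⟩ := D.π_surj ![0, 0, 0, 0, om * D.π a 4, 0]
  have hqe : val q * P.e * (val q)⁻¹ = P.e :=
    Rep.fix_of_zero D P (by rw [hq]; rfl) (by rw [hq]; rfl) (by rw [hq]; rfl) (by rw [hq]; rfl)
  have hqr : val q * r * (val q)⁻¹ = r * z := by
    refine (Rep.conj_R0 D q hr).resolve_left fun h => ?_
    have hcomm : q * a = a * q := Subtype.ext (Subtype.ext (by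
      show val q * val a = val a * val q
      rw [ha]; exact mul_inv_eq_iff_eq_mul.1 h))
    have := (D.comm_iff q a).1 hcomm
    rw [hq, ← w3_eq haW] at this
    exact off_vector _ _ _ h4 this
  refine isConj_iff.2 ⟨val q, ?_⟩
  rw [show val q * (P.e * r) * (val q)⁻¹ = (val q * P.e * (val q)⁻¹) * (val q * r * (val q)⁻¹) by group,
    hqe, hqr, mul_assoc]

/-- Off the trace there is one class. -/
theorem Rep.off {r r' : G} (hr : r ∈ R0 D) (hr' : r' ∈ R0 D) {a a' : Q} (ha : val a = r) (ha' : val a' = r')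
    (hL : ¬ InL (D.π a)) (hL' : ¬ InL (D.π a')) : IsConj (P.e * r) (P.e * r') := by
  -- moving within a coset of the trace
  have hwith : ∀ (b b' : Q), val b ∈ R0 D → ¬ InL (D.π b') → InL (D.π b + D.π b') →
      IsConj (P.e * val b) (P.e * val b') := by
    intro b b' hb hb' hsum
    have hb'W : InW (D.π b') := by
      have := (π_mem_R0 D hb).add hsum.1
      rwa [← add_assoc, show D.π b + D.π b = 0 from funext fun i => add_self_F4 _, zero_add] at this
    obtain ⟨q, hq⟩ := D.π_surj ![(D.π b + D.π b') 0, 0, (D.π b + D.π b') 2, 0, 0, 0]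
    obtain ⟨k, hk, hkπ⟩ := Rep.conj_Q D P q
    have e : D.π k = D.π b + D.π b' := by
      rw [hkπ, hq]
      obtain ⟨⟨h1, h2, h3⟩, h4⟩ := hsum
      funext i
      fin_cases i <;>
        simp only [Fin.isValue, Fin.reduceFinMk, Fin.zero_eta, Fin.mk_one, Pi.add_apply, Matrix.cons_val_zero,
          Matrix.cons_val_one, Matrix.cons_val, zero_add, add_zero] <;>
        first | rfl | exact h1 | exact h2 | exact h4.symm | exact h4.symm.trans h3
    have hbW := π_mem_R0 D hb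
    have hπ : D.π (k * b) = D.π b' := by
      rw [D.π_mul, e, add_comm (D.π b), add_assoc, show D.π b + D.π b = 0 from funext fun i => add_self_F4 _,
        add_zero]
    have hflip := Rep.flip D P (val_mem_R0 D hb'W) rfl hb'
    have h1 : IsConj (P.e * val b) (P.e * (val k * val b)) ∨
        IsConj (P.e * val b) (P.e * (val k * val b) * z) := by
      rcases Rep.conj_R0 D q hb with h | h
      · refine Or.inl (isConj_iff.2 ⟨val q, ?_⟩)
        rw [show val q * (P.e * val b) * (val q)⁻¹ = (val q * P.e * (val q)⁻¹) * (val q * val b * (val q)⁻¹) by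
          group, hk, h, mul_assoc]
      · refine Or.inr (isConj_iff.2 ⟨val q, ?_⟩)
        rw [show val q * (P.e * val b) * (val q)⁻¹ = (val q * P.e * (val q)⁻¹) * (val q * val b * (val q)⁻¹) by
          group, hk, h]
        group
    rcases D.eq_of_π hπ.symm with h | h <;> change val k * val b = _ at h <;> rw [h] at h1
    · rcases h1 with h2 | h2
      exacts [h2, h2.trans hflip.symm]
    · rw [← mul_assoc P.e, mul_assoc _ z z, z_sq D, mul_one] at h1
      rcases h1 with h2 | h2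
      exacts [h2.trans hflip.symm, h2]
  have hy : ∀ b : Q, IsConj (P.e * val b) (P.e * val (MulAut.conjNormal P.y b)) := fun b =>
    isConj_iff.2 ⟨P.y, by
      show _ = P.e * ((P.y : G) * val b * (P.y : G)⁻¹)
      rw [show (P.y : G) * (P.e * val b) * (P.y : G)⁻¹ =
        ((P.y : G) * P.e * (P.y : G)⁻¹) * ((P.y : G) * val b * (P.y : G)⁻¹) by group, P.yfix]⟩
  have hyR : ∀ b : Q, val b ∈ R0 D → val (MulAut.conjNormal P.y b) ∈ R0 D := fun b hb =>
    N0_conj_R0 D P.yN hb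
  subst ha ha'
  have hW := π_mem_R0 D hr
  have hW' := π_mem_R0 D hr'
  have h4 : D.π a 4 ≠ 0 := fun h => hL ⟨hW, h⟩
  have h4' : D.π a' 4 ≠ 0 := fun h => hL' ⟨hW', h⟩
  have key : (D.π a 4 + D.π a' 4) * (P.w * D.π a 4 + D.π a' 4) * (P.w * (P.w * D.π a 4) + D.π a' 4) = 0 := by
    have e1 : ∀ x y : F4, x ≠ 0 → y ≠ 0 → (x + y) * (om * x + y) * (om * (om * x) + y) = 0 ∧
        (x + y) * (om * om * x + y) * (om * om * (om * om * x) + y) = 0 := by decide +kernel
    rcases P.w_eq with h | h <;> rw [h]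
    exacts [(e1 _ _ h4 h4').1, (e1 _ _ h4 h4').2]
  simp only [mul_eq_zero] at key
  rcases key with (h | h) | h
  · exact hwith a a' hr hL' ⟨hW.add hW', h⟩
  · refine (hy a).trans (hwith _ a' (hyR _ hr) hL' ?_)
    rw [P.yπ]; exact ⟨(hW.smul _).add hW', h⟩
  · refine ((hy a).trans (hy _)).trans (hwith _ a' (hyR _ (hyR _ hr)) hL' ?_)
    rw [P.yπ, P.yπ]; exact ⟨((hW.smul _).smul _).add hW', h⟩

end CfsgLib.FiLarge.Thom
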