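import Cfsg.Agent.FiLarge.Thom.Setup
import Cfsg.Prelude.Def_Transfer

/-!
The subgroup of order `2^11` as the Thompson subgroup, and fusion in its normaliser.
-/

set_option autoImplicit false
set_option quotPrecheck false
set_option maxRecDepth 100000
set_option linter.style.haveILetI false
set_option linter.unusedSectionVars false

namespace CfsgLib.FiLarge.Thom

open CfsgLib Subgroup
open CfsgLib.FiLarge.Dat (val)

variable {G : Type*} [Group G]

theorem isElementaryAbelian_iff {B : Subgroup G} :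
    Cfsg.IsElementaryAbelian 2 B ↔ ∀ a ∈ B, a * a = 1 := by
  refine ⟨fun h a ha => by rw [← pow_two]; exact h.2 a ha, fun h => ⟨⟨⟨fun a b => ?_⟩⟩, fun a ha => by
    rw [pow_two]; exact h a ha⟩⟩
  have i : ∀ u : B, u⁻¹ = u := fun u => inv_eq_of_mul_eq_one_right (Subtype.ext (h u u.2))
  rw [← i (a * b), mul_inv_rev, i a, i b]

theorem thompson_eq [Finite G] {P A : Subgroup G} (hAP : A ≤ P) (hA : ∀ a ∈ A, a * a = 1)
    (hu : ∀ B : Subgroup G, B ≤ P → (∀ b ∈ B, b * b = 1) → Nat.card A ≤ Nat.card B → B = A) :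
    Cfsg.thompsonSubgroupOf 2 P = A := by
  have hsub : ∀ B : Subgroup P, Cfsg.IsElementaryAbelian 2 B → ∀ b ∈ B.map P.subtype, b * b = 1 := by
    rintro B hB _ ⟨b, hb, rfl⟩
    exact congrArg Subtype.val (isElementaryAbelian_iff.1 hB b hb)
  have hc : ∀ B : Subgroup P, Nat.card (B.map P.subtype) = Nat.card B := fun B =>
    card_map_of_injective P.subtype_injective
  have hA' : (A.subgroupOf P).map P.subtype = A := map_subgroupOf_eq_of_le hAP
  have hmax : Cfsg.maxElementaryAbelianSubgroups 2 P = {A.subgroupOf P} := by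
    ext B
    constructor
    · rintro ⟨hB, hmax⟩
      have h := hmax (A.subgroupOf P) (isElementaryAbelian_iff.2 fun a ha => Subtype.ext (hA a ha))
      refine Set.mem_singleton_iff.2 (map_injective P.subtype_injective ?_)
      rw [hA']
      refine hu _ (map_subtype_le B) (hsub B hB) ?_
      rw [hc, ← hA', hc]
      exact h
    · rintro rfl
      refine ⟨isElementaryAbelian_iff.2 fun a ha => Subtype.ext (hA a ha), fun B hB => ?_⟩
      by_contra hlt
      push Not at hlt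
      rw [← hc, ← hc B, hA'] at hlt
      rw [hu _ (map_subtype_le B) (hsub B hB) hlt.le] at hlt
      exact lt_irrefl _ hlt
  show (Cfsg.thompsonSubgroup 2 P).map P.subtype = A
  rw [Cfsg.thompsonSubgroup, hmax, sSup_singleton, hA']

variable [Finite G] {z : G} {Q : Subgroup (centralizer ({z} : Set G))} [Q.Normal] (D : Dat z Q)

local notation "HH" => centralizer ({z} : Set G)

/-- The uniqueness of the largest elementary abelian subgroup in the centraliser's Sylow groups. -/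
def Uniq (z : G) : Prop :=
  ∀ T : Sylow 2 ↥(centralizer ({z} : Set G)), ∃ A : Subgroup ↥(T : Subgroup (centralizer ({z} : Set G))),
    Cfsg.maxElementaryAbelianSubgroups 2 ↥(T : Subgroup (centralizer ({z} : Set G))) = {A} ∧
      Nat.card A = 2 ^ 11

variable (hinv : ∃ y, y * D.T.x * y⁻¹ = D.T.x⁻¹) (hu : Uniq z)

include hinv hu in
/-- A Sylow subgroup of the group containing the subgroup as its only large elementary one. -/
theorem exists_sylow : ∃ T : Sylow 2 G, A0 D ≤ T ∧ (T : Subgroup G) ≤ HH ∧ 2 ^ 21 ∣ Nat.card T ∧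
    ∀ B : Subgroup G, B ≤ T → (∀ b ∈ B, b * b = 1) → 2 ^ 11 ≤ Nat.card B → B = A0 D := by
  haveI : Fact (Nat.Prime 2) := ⟨Nat.prime_two⟩
  obtain ⟨hsq, -⟩ := A0_elementary D hinv
  have hA := (card_A0 D hinv).1
  have hp : IsPGroup 2 ((A0 D).subgroupOf HH) := fun a => ⟨1, Subtype.ext (Subtype.ext (by
    rw [pow_one, SubgroupClass.coe_pow, SubgroupClass.coe_pow, pow_two]; exact hsq _ a.2))⟩
  obtain ⟨T0, hT0⟩ := hp.exists_le_sylow
  set TG := (T0 : Subgroup HH).map (Subgroup.subtype HH) with hTG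
  have hTp : IsPGroup 2 TG := T0.isPGroup'.map _
  obtain ⟨S, hS⟩ := hTp.exists_le_sylow
  have hQp : IsPGroup 2 Q := IsPGroup.of_card D.cardQ
  have hQT : Q ≤ T0 := hQp.le_sylow_of_normal T0
  have hST : (S : Subgroup G) ≤ HH := by
    haveI : Nontrivial (S : Subgroup G) :=
      ⟨⟨z, hS (map_mono hQT D.zQ)⟩, 1, fun e => z_ne D (congrArg Subtype.val e)⟩
    haveI := IsPGroup.center_nontrivial S.isPGroup'
    obtain ⟨⟨c, hc⟩, hc1⟩ := exists_ne (1 : Subgroup.center (S : Subgroup G))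
    have hcQ : ∀ q ∈ Q.map (Subgroup.subtype HH), q * (c : G) = c * q := fun q hq =>
      congrArg Subtype.val (mem_center_iff.1 hc ⟨q, hS (map_mono hQT hq)⟩)
    have hcmem : (c : G) ∈ Q.map (Subgroup.subtype HH) := D.pre.self (mem_centralizer_iff.2 hcQ)
    have hcz : (c : G) = z := by
      refine (D.pre.gen.center_iff _ hcmem fun y hy => (hcQ y hy).symm).resolve_left fun e => hc1 ?_
      exact Subtype.ext (Subtype.ext e)
    intro g hg
    refine mem_centralizer_singleton_iff.2 ?_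
    rw [← hcz]
    exact congrArg Subtype.val (mem_center_iff.1 hc ⟨g, hg⟩)
  have hSeq : (S : Subgroup G) = TG := by
    have h1 : ((S : Subgroup G).subgroupOf HH) = T0 := T0.is_maximal'
      (fun s => by
        obtain ⟨k, hk⟩ := S.isPGroup' ⟨(s : HH), s.2⟩
        exact ⟨k, Subtype.ext (Subtype.ext (by simpa using congrArg Subtype.val hk))⟩)
      (fun t ht => hS (mem_map_of_mem _ ht))
    rw [hTG, ← h1, map_subgroupOf_eq_of_le hST]
  have hcard : Nat.card (S : Subgroup G) = Nat.card (T0 : Subgroup HH) := by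
    rw [hSeq, hTG, card_map_of_injective (Subgroup.subtype_injective _)]
  refine ⟨S, fun a ha => ?_, hST, ?_, fun B hB hB2 hBc => ?_⟩
  · exact hS (mem_map.2 ⟨⟨a, A0_le_cz D ha⟩, hT0 ha, rfl⟩)
  · rw [hcard]
    refine T0.pow_dvd_card_of_pow_dvd_card ?_
    rw [Subgroup.card_eq_card_quotient_mul_card_subgroup Q, D.T.card, D.cardQ]
    norm_num
  · obtain ⟨A, hAmax, hAc⟩ := hu T0
    have key : ∀ B : Subgroup G, B ≤ S → (∀ b ∈ B, b * b = 1) → 2 ^ 11 ≤ Nat.card B →
        (B.subgroupOf HH).subgroupOf (T0 : Subgroup HH) = A := by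
      intro B hB hB2 hBc
      have hBT : B.subgroupOf HH ≤ T0 := fun b hb => by
        obtain ⟨t, ht, e⟩ := mem_map.1 (hSeq ▸ hB hb : (b : G) ∈ TG)
        rwa [← (Subtype.ext e : t = b)]
      have hmem : (B.subgroupOf HH).subgroupOf (T0 : Subgroup HH) ∈
          Cfsg.maxElementaryAbelianSubgroups 2 ↥(T0 : Subgroup HH) := by
        refine ⟨isElementaryAbelian_iff.2 fun a ha => Subtype.ext (Subtype.ext (hB2 _ ha)), fun B' hB' => ?_⟩
        have hAm : A ∈ Cfsg.maxElementaryAbelianSubgroups 2 ↥(T0 : Subgroup HH) := hAmax ▸ Set.mem_singleton A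
        refine (hAm.2 B' hB').trans ?_
        rw [hAc, Nat.card_congr (subgroupOfEquivOfLe hBT).toEquiv,
          Nat.card_congr (subgroupOfEquivOfLe (hB.trans hST)).toEquiv]
        exact hBc
      rwa [hAmax, Set.mem_singleton_iff] at hmem
    have e := (key B hB hB2 hBc).trans (key (A0 D) (fun a ha => hS (mem_map.2 ⟨⟨a, A0_le_cz D ha⟩, hT0 ha, rfl⟩))
      hsq hA.ge).symm
    have hBT : ∀ B : Subgroup G, B ≤ S → B.subgroupOf HH ≤ T0 := fun B hB b hb => by
      obtain ⟨t, ht, e⟩ := mem_map.1 (hSeq ▸ hB hb : (b : G) ∈ TG)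
      rwa [← (Subtype.ext e : t = b)]
    have e2 := congrArg (fun K : Subgroup ↥(T0 : Subgroup HH) =>
      (K.map (T0 : Subgroup HH).subtype).map (Subgroup.subtype HH)) e
    rwa [map_subgroupOf_eq_of_le (hBT B hB),
      map_subgroupOf_eq_of_le (hBT _ fun a ha => hS (mem_map.2 ⟨⟨a, A0_le_cz D ha⟩, hT0 ha, rfl⟩)),
      map_subgroupOf_eq_of_le (hB.trans hST), map_subgroupOf_eq_of_le (A0_le_cz D)] at e2

include hinv hu in
/-- In every Sylow subgroup the large elementary subgroup is unique and conjugate to the standard one. -/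
theorem sylow_conj (T : Sylow 2 G) : ∃ g : G, (A0 D).map (MulAut.conj g).toMonoidHom ≤ T ∧
    ∀ B : Subgroup G, B ≤ T → (∀ b ∈ B, b * b = 1) → 2 ^ 11 ≤ Nat.card B →
      B = (A0 D).map (MulAut.conj g).toMonoidHom := by
  haveI : Fact (Nat.Prime 2) := ⟨Nat.prime_two⟩
  obtain ⟨S, hAS, -, -, hS⟩ := exists_sylow D hinv hu
  obtain ⟨g, hg⟩ := MulAction.exists_smul_eq G S T
  have hT : (T : Subgroup G) = (S : Subgroup G).map (MulAut.conj g).toMonoidHom := by
    rw [← hg]; rfl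
  refine ⟨g, hT ▸ map_mono hAS, fun B hB hB2 hBc => ?_⟩
  have e : B.map (MulAut.conj g).symm.toMonoidHom = A0 D := by
    refine hS _ ?_ ?_ ?_
    · rintro _ ⟨b, hb, rfl⟩
      obtain ⟨s, hs, rfl⟩ := mem_map.1 (hT ▸ hB hb)
      simpa [mul_assoc] using hs
    · rintro _ ⟨b, hb, rfl⟩
      rw [← map_mul, hB2 b hb, map_one]
    · rwa [card_map_of_injective (MulEquiv.injective _)]
  rw [← e, map_map]
  convert (map_id B).symm using 2
  ext b
  simp

include hinv hu in
theorem thompson_conj (T : Sylow 2 G) : ∃ g : G,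
    Cfsg.thompsonSubgroupOf 2 (T : Subgroup G) = (A0 D).map (MulAut.conj g).toMonoidHom := by
  obtain ⟨g, hg, hB⟩ := sylow_conj D hinv hu T
  refine ⟨g, thompson_eq hg ?_ fun B h1 h2 h3 => hB B h1 h2 ?_⟩
  · rintro _ ⟨a, ha, rfl⟩
    rw [← map_mul, (A0_elementary D hinv).1 a ha, map_one]
  · rwa [card_map_of_injective (MulEquiv.injective _), (card_A0 D hinv).1] at h3

theorem map_conj_mem {g : G} {B : Subgroup G} (h : B.map (MulAut.conj g).toMonoidHom = B) :
    g ∈ normalizer (B : Set G) := by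
  refine mem_normalizer_iff.2 fun a => ⟨fun ha => h ▸ ⟨a, ha, rfl⟩, fun ha => ?_⟩
  obtain ⟨b, hb, e⟩ := mem_map.1 (h.symm ▸ ha : g * a * g⁻¹ ∈ B.map (MulAut.conj g).toMonoidHom)
  rwa [← (mul_left_cancel (mul_right_cancel e) : b = a)]

include hinv hu in
/-- The normaliser controls fusion. -/
theorem fusion {a : G} (ha : a ∈ A0 D) {g : G} (hga : g * a * g⁻¹ ∈ A0 D) :
    ∃ m ∈ normalizer (A0 D : Set G), m * a * m⁻¹ = g * a * g⁻¹ := by
  haveI : Fact (Nat.Prime 2) := ⟨Nat.prime_two⟩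
  obtain ⟨hsq, hcomm⟩ := A0_elementary D hinv
  set b := g * a * g⁻¹
  set A2 := (A0 D).map (MulAut.conj g).toMonoidHom
  have h1 : A0 D ≤ centralizer ({b} : Set G) := fun x hx =>
    mem_centralizer_singleton_iff.2 (hcomm x hx b hga)
  have h2 : A2 ≤ centralizer ({b} : Set G) := by
    rintro _ ⟨x, hx, rfl⟩
    refine mem_centralizer_singleton_iff.2 ?_
    show g * x * g⁻¹ * (g * a * g⁻¹) = g * a * g⁻¹ * (g * x * g⁻¹)
    rw [show g * x * g⁻¹ * (g * a * g⁻¹) = g * (x * a) * g⁻¹ by group, hcomm x hx a ha]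
    group
  have hsq2 : ∀ x ∈ A2, x * x = 1 := by
    rintro _ ⟨x, hx, rfl⟩; rw [← map_mul, hsq x hx, map_one]
  have pg : ∀ B : Subgroup G, (∀ x ∈ B, x * x = 1) → IsPGroup 2 (B.subgroupOf (centralizer ({b} : Set G))) :=
    fun B hB x => ⟨1, Subtype.ext (Subtype.ext (by
      rw [pow_one, SubgroupClass.coe_pow, SubgroupClass.coe_pow, pow_two]; exact hB _ x.2))⟩
  obtain ⟨S1, hS1⟩ := (pg _ hsq).exists_le_sylow
  obtain ⟨S2, hS2⟩ := (pg _ hsq2).exists_le_sylow
  obtain ⟨h, hh⟩ := MulAction.exists_smul_eq (centralizer ({b} : Set G)) S2 S1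
  obtain ⟨S, hS⟩ := (S1.isPGroup'.map (Subgroup.subtype _)).exists_le_sylow
  obtain ⟨k, -, huniq⟩ := sylow_conj D hinv hu S
  have hA := (card_A0 D hinv).1
  set A3 := (A0 D).map (MulAut.conj ((h : G) * g)).toMonoidHom with hA3def
  have hA1S : A0 D ≤ S := fun x hx => hS (mem_map.2 ⟨⟨x, h1 hx⟩, hS1 hx, rfl⟩)
  have hA3S : A3 ≤ S := by
    rintro _ ⟨x, hx, rfl⟩
    refine hS (mem_map.2 ⟨h * ⟨g * x * g⁻¹, h2 ⟨x, hx, rfl⟩⟩ * h⁻¹, ?_, ?_⟩)
    · have hm : (⟨g * x * g⁻¹, h2 ⟨x, hx, rfl⟩⟩ : centralizer ({b} : Set G)) ∈ (S2 : Subgroup _) :=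
        hS2 ⟨x, hx, rfl⟩
      rw [← hh]
      exact ⟨_, hm, rfl⟩
    · show (h : G) * (g * x * g⁻¹) * (h : G)⁻¹ = (h : G) * g * x * ((h : G) * g)⁻¹
      group
  have hA3sq : ∀ x ∈ A3, x * x = 1 := by
    rintro _ ⟨x, hx, rfl⟩; rw [← map_mul, hsq x hx, map_one]
  have e : A3 = A0 D :=
    (huniq A3 hA3S hA3sq (by rw [hA3def, card_map_of_injective (MulEquiv.injective _), hA])).trans
      (huniq _ hA1S hsq hA.ge).symm
  refine ⟨(h : G) * g, map_conj_mem e, ?_⟩
  have hb : (h : G) * b = b * h := mem_centralizer_singleton_iff.1 h.2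
  calc (h : G) * g * a * ((h : G) * g)⁻¹ = (h : G) * b * (h : G)⁻¹ := by simp only [b]; group
    _ = b := by rw [hb, mul_inv_cancel_right]

include hinv hu in
theorem pow_dvd_normalizer : 2 ^ 21 ∣ Nat.card (normalizer (A0 D : Set G)) := by
  obtain ⟨S, hAS, -, hS21, huniq⟩ := exists_sylow D hinv hu
  refine hS21.trans (Subgroup.card_dvd_of_le fun t ht => map_conj_mem (huniq _ ?_ ?_ ?_))
  · rintro _ ⟨a, ha, rfl⟩
    exact mul_mem (mul_mem ht (hAS ha)) (inv_mem ht)
  · rintro _ ⟨a, ha, rfl⟩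
    rw [← map_mul, (A0_elementary D hinv).1 a ha, map_one]
  · rw [card_map_of_injective (MulEquiv.injective _), (card_A0 D hinv).1]

end CfsgLib.FiLarge.Thom
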