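import Cfsg.Agent.FiLarge.Thom.Classes
import Cfsg.Agent.FiLarge.Thom.Fusion

/-!
The numbers of conjugates of `z` in the subgroup of order `2^11`, and the two orbits.
-/

set_option autoImplicit false
set_option quotPrecheck false
set_option maxRecDepth 100000
set_option linter.style.haveILetI false
set_option linter.unusedSectionVars false

namespace CfsgLib.FiLarge.Thom

open CfsgLib Subgroup
open CfsgLib.FiLarge.Dat (val)

attribute [local instance] Classical.propDecidable

theorem large_count : ∀ k : Fin 5, 2 ≤ k →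
    (Finset.univ.filter fun t : F4 × F4 × F4 =>
      ¬ Sml k (w3 t.1 t.2.1 t.2.2) ∧ w3 t.1 t.2.1 t.2.2 ≠ 0).card = 45 := by
  decide +kernel

/-- Primes not dividing the order of an automorphism group with the given fixed points. -/
theorem prime_check : ∀ p ∈ ([13, 331, 571, 1531, 2011] : List ℕ), ∀ j : Fin 11,
    ¬ 2 ^ j.val % p = 2 ^ 11 % p := by
  decide +kernel

variable {G : Type*} [Group G] [Finite G] {z : G} {Q : Subgroup (centralizer ({z} : Set G))} [Q.Normal]
  (D : Dat z Q)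

local notation "HH" => centralizer ({z} : Set G)
local notation "mk" => QuotientGroup.mk' Q

/-- The projection of an element of `Q`, as an element of the group. -/
noncomputable def πG (g : G) : V6 := if h : ∃ a : Q, val a = g then D.π h.choose else 0

theorem πG_val (a : Q) : πG D (val a) = D.π a := by
  have h : ∃ b : Q, val b = val a := ⟨a, rfl⟩
  rw [πG, dif_pos h]
  exact congrArg D.π (Subtype.ext (Subtype.ext h.choose_spec))

theorem πG_inW {r : G} (hr : r ∈ R0 D) : InW (πG D r) := by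
  obtain ⟨a, rfl, ha⟩ := hr
  rwa [πG_val]

theorem πG_mul_z {r : G} (hr : r ∈ R0 D) : πG D (r * z) = πG D r := by
  obtain ⟨a, rfl, -⟩ := hr
  obtain ⟨q, hq, hq0⟩ := exists_zQ D
  rw [show val a * z = val (a * q) from (congrArg (val a * ·) hq).symm, πG_val, πG_val, D.π_mul, hq0, add_zero]

/-- The elements of a subgroup. -/
noncomputable def elems (B : Subgroup G) : Finset G :=
  letI := Fintype.ofFinite G
  Finset.univ.filter fun g => g ∈ B

theorem mem_elems {B : Subgroup G} {g : G} : g ∈ elems B ↔ g ∈ B := by simp [elems]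

theorem card_elems (B : Subgroup G) : (elems B).card = Nat.card B :=
  (Nat.subtype_card (elems B) fun _ => mem_elems).symm

include D in
theorem ne_mul_z (r : G) : r * z ≠ r := fun e => D.pre.gen.ne_one (mul_eq_left.1 e)

theorem card_R0_filter (P : V6 → Prop) :
    ((elems (R0 D)).filter fun r => P (πG D r)).card =
      2 * (Finset.univ.filter fun t : F4 × F4 × F4 => P (w3 t.1 t.2.1 t.2.2)).card := by
  classical
  let co : G → F4 × F4 × F4 := fun r => (πG D r 0, πG D r 2, πG D r 4)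
  have hco : ∀ r ∈ R0 D, w3 (co r).1 (co r).2.1 (co r).2.2 = πG D r := fun r hr => w3_eq (πG_inW D hr)
  rw [Finset.card_eq_sum_card_fiberwise (f := co)
    (t := Finset.univ.filter fun t : F4 × F4 × F4 => P (w3 t.1 t.2.1 t.2.2))]
  · rw [mul_comm]
    refine (Finset.sum_const_nat fun t ht => ?_)
    obtain ⟨a, ha, haR⟩ := exists_lift_R0 D (inW_w3 t.1 t.2.1 t.2.2)
    have : (((elems (R0 D)).filter fun r => P (πG D r)).filter fun r => co r = t) = {val a, val a * z} := by
      ext r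
      simp only [Finset.mem_filter, mem_elems, Finset.mem_insert, Finset.mem_singleton]
      constructor
      · rintro ⟨⟨hr, -⟩, he⟩
        obtain ⟨b, rfl, hb⟩ := hr
        refine D.eq_of_π ?_
        rw [ha, ← he, hco _ (val_mem_R0 D hb), πG_val]
      · have key : ∀ b : Q, D.π b = w3 t.1 t.2.1 t.2.2 → (val b ∈ R0 D ∧ P (πG D (val b))) ∧ co (val b) = t := by
          intro b hb
          refine ⟨⟨val_mem_R0 D (hb ▸ inW_w3 _ _ _), ?_⟩, ?_⟩
          · rw [πG_val, hb]; exact (Finset.mem_filter.1 ht).2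
          · show (πG D (val b) 0, πG D (val b) 2, πG D (val b) 4) = t
            rw [πG_val, hb]; rfl
        obtain ⟨q, hq, hq0⟩ := exists_zQ D
        rintro (rfl | rfl)
        · exact key a ha
        · rw [show val a * z = val (a * q) from (congrArg (val a * ·) hq).symm]
          exact key _ (by rw [D.π_mul, hq0, add_zero, ha])
    rw [this, Finset.card_pair (ne_mul_z D _).symm]
  · intro r hr
    simp only [Finset.mem_coe, Finset.mem_filter, mem_elems] at hr
    exact Finset.mem_filter.2 ⟨Finset.mem_univ _, by rw [hco r hr.1]; exact hr.2⟩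

variable {gs : G} {s : Q} (hgs : gs * z * gs⁻¹ = val s) (hsz : val s ≠ z)

include D in
theorem not_conj_one : ¬ IsConj z (1 : G) := fun h => z_ne D (isConj_one_left.1 h)

theorem small_ne_zero {v : V6} (hv : v ∈ D.T.orb ⊤ v2) : v ≠ 0 := fun e => by
  obtain ⟨c, -, hc⟩ := D.T.mem_orb.1 hv
  rw [e] at hc
  exact Std.v2_sing.2 ((LinearEquiv.map_eq_zero_iff _).1 hc)

include hgs hsz in
theorem R0_z_iff {r : G} (hr : r ∈ R0 D) :
    IsConj z r ↔ r = z ∨ (πG D r ≠ 0 ∧ πG D r ∉ D.T.orb ⊤ v2) := by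
  obtain ⟨a, rfl, ha⟩ := hr
  rw [πG_val]
  by_cases h0 : D.π a = 0
  · rcases (D.π_eq_zero a).1 h0 with e | e <;> change val a = _ at e <;> rw [e]
    · exact iff_of_false (not_conj_one D) fun h => h.elim (fun h => z_ne D h.symm) fun h => h.1 h0
    · exact iff_of_true (IsConj.refl z) (Or.inl rfl)
  · rw [R0_class D hgs hsz ha h0]
    refine ⟨fun h => Or.inr ⟨h0, h⟩, fun h => h.elim (fun e => absurd ((D.π_eq_zero a).2 (Or.inr e)) h0) And.right⟩

include hgs hsz in
theorem R0_z_count : ((elems (R0 D)).filter fun r => IsConj z r).card = 91 := by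
  obtain ⟨k, hk, hS⟩ := exists_class D.T
  have hh : ((elems (R0 D)).filter fun r => IsConj z r) =
      insert z ((elems (R0 D)).filter fun r => ¬ Sml k (πG D r) ∧ πG D r ≠ 0) := by
    ext r
    simp only [Finset.mem_insert, Finset.mem_filter, mem_elems]
    constructor
    · rintro ⟨hr, h⟩
      rcases (R0_z_iff D hgs hsz hr).1 h with h | h
      exacts [Or.inl h, Or.inr ⟨hr, fun h' => h.2 ((hS _ (πG_inW D hr)).2 h'), h.1⟩]
    · rintro (rfl | ⟨hr, h1, h2⟩)
      · exact ⟨z_mem_R0 D, IsConj.refl _⟩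
      · exact ⟨hr, (R0_z_iff D hgs hsz hr).2 (Or.inr ⟨h2, fun h' => h1 ((hS _ (πG_inW D hr)).1 h')⟩)⟩
  rw [hh, Finset.card_insert_of_notMem]
  · have h := card_R0_filter D fun v => ¬ Sml k v ∧ v ≠ 0
    have h45 := large_count k hk
    have h1 : ((elems (R0 D)).filter fun r => ¬ Sml k (πG D r) ∧ πG D r ≠ 0).card = 90 := by
      convert h.trans (congrArg (2 * ·) (show _ = 45 by convert h45 using 3)) using 3
    omega
  · intro h
    refine (Finset.mem_filter.1 h).2.2 ?_
    obtain ⟨q, hq, hq0⟩ := exists_zQ D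
    exact (congrArg (πG D) hq.symm).trans ((πG_val D q).trans hq0)

variable (P : Rep D)

theorem Rep.in_L' {r : G} (hr : r ∈ R0 D) (hL : InL (πG D r)) :
    (IsConj P.e (P.e * r) ∧ IsConj (P.e * z) (P.e * (r * z))) ∨
      (IsConj (P.e * z) (P.e * r) ∧ IsConj P.e (P.e * (r * z))) := by
  obtain ⟨a, rfl, -⟩ := hr
  rw [πG_val] at hL
  rw [← mul_assoc]
  exact Rep.in_L D P ⟨a, rfl, hL.1⟩ rfl hL

theorem Rep.off' {r r' : G} (hr : r ∈ R0 D) (hr' : r' ∈ R0 D) (hL : ¬ InL (πG D r)) (hL' : ¬ InL (πG D r')) :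
    IsConj (P.e * r) (P.e * r') := by
  obtain ⟨a, rfl, ha⟩ := id hr
  obtain ⟨b, rfl, hb⟩ := id hr'
  rw [πG_val] at hL hL'
  exact Rep.off D P hr hr' rfl rfl hL hL'

/-- The number of conjugates of `z` in the coset of the chosen element. -/
noncomputable def Rep.fib : ℕ := ((elems (R0 D)).filter fun r => IsConj z (P.e * r)).card

theorem Rep.fib_eq : Rep.fib D P =
    16 * ((if IsConj z P.e then 1 else 0) + (if IsConj z (P.e * z) then 1 else 0)) +
      (if ∀ r ∈ R0 D, ¬ InL (πG D r) → IsConj z (P.e * r) then 96 else 0) := by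
  classical
  set p : G → Prop := fun r => IsConj z (P.e * r)
  set S := (elems (R0 D)).filter fun r => InL (πG D r)
  set S' := (elems (R0 D)).filter fun r => ¬ InL (πG D r)
  have hsplit : Rep.fib D P = (S.filter p).card + (S'.filter p).card := by
    rw [Rep.fib, ← Finset.card_union_of_disjoint]
    · congr 1
      ext r
      simp only [S, S', p, Finset.mem_union, Finset.mem_filter]
      tauto
    · exact Finset.disjoint_left.2 fun r h h' =>
        (Finset.mem_filter.1 (Finset.mem_filter.1 h').1).2 (Finset.mem_filter.1 (Finset.mem_filter.1 h).1).2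
  have hS : S.card = 32 := by
    have h := card_R0_filter D InL
    have hn := inL_count
    show ((elems (R0 D)).filter fun r => InL (πG D r)).card = 32
    convert h.trans (congrArg (2 * ·) (show _ = 16 by convert hn using 3)) using 3
  have hS' : S'.card = 96 := by
    have h := card_R0_filter D (fun v => ¬ InL v)
    have hn := inL_count_not
    show ((elems (R0 D)).filter fun r => ¬ InL (πG D r)).card = 96
    convert h.trans (congrArg (2 * ·) (show _ = 48 by convert hn using 3)) using 3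
  have hzS : ∀ r ∈ S, r * z ∈ S := fun r hr => by
    simp only [S, Finset.mem_filter, mem_elems] at hr ⊢
    exact ⟨mul_mem hr.1 (z_mem_R0 D), by rw [πG_mul_z D hr.1]; exact hr.2⟩
  have hzz : ∀ r : G, r * z * z = r := fun r => by rw [mul_assoc, z_sq D, mul_one]
  have hflip : (S.filter p).card = (S.filter fun r => p (r * z)).card := by
    refine Finset.card_bij' (fun r _ => r * z) (fun r _ => r * z) ?_ ?_ ?_ ?_
    · intro r hr
      rw [Finset.mem_filter] at hr ⊢
      exact ⟨hzS r hr.1, by rw [hzz]; exact hr.2⟩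
    · intro r hr
      rw [Finset.mem_filter] at hr ⊢
      exact ⟨hzS r hr.1, hr.2⟩
    all_goals intro r _; exact hzz r
  have hpair : ∀ r ∈ S, ((if p r then 1 else 0) + (if p (r * z) then 1 else 0) : ℕ) =
      (if IsConj z P.e then 1 else 0) + (if IsConj z (P.e * z) then 1 else 0) := by
    intro r hr
    simp only [S, Finset.mem_filter, mem_elems] at hr
    rcases Rep.in_L' D P hr.1 hr.2 with ⟨h1, h2⟩ | ⟨h1, h2⟩
    · rw [if_congr (⟨fun h => h.trans h1.symm, fun h => h.trans h1⟩ : p r ↔ IsConj z P.e) rfl rfl,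
        if_congr (⟨fun h => h.trans h2.symm, fun h => h.trans h2⟩ : p (r * z) ↔ IsConj z (P.e * z)) rfl rfl]
    · rw [if_congr (⟨fun h => h.trans h1.symm, fun h => h.trans h1⟩ : p r ↔ IsConj z (P.e * z)) rfl rfl,
        if_congr (⟨fun h => h.trans h2.symm, fun h => h.trans h2⟩ : p (r * z) ↔ IsConj z P.e) rfl rfl, add_comm]
  have h2 := Finset.sum_congr rfl hpair
  rw [Finset.sum_add_distrib, ← Finset.card_filter, ← Finset.card_filter, ← hflip, Finset.sum_const,
    smul_eq_mul, hS] at h2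
  rw [hsplit]
  congr 1
  · have hx : 2 * (S.filter p).card = 32 * ((if IsConj z P.e then 1 else 0) +
        (if IsConj z (P.e * z) then 1 else 0)) := by
      rw [two_mul]; convert h2 using 3
    omega
  · by_cases hc : ∀ r ∈ R0 D, ¬ InL (πG D r) → IsConj z (P.e * r)
    · rw [if_pos hc, ← hS', Finset.filter_true_of_mem]
      intro r hr
      simp only [S', Finset.mem_filter, mem_elems] at hr
      exact hc r hr.1 hr.2
    · rw [if_neg hc, Finset.card_eq_zero, Finset.filter_eq_empty_iff]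
      intro r hr hp
      simp only [S', Finset.mem_filter, mem_elems] at hr
      exact hc fun r' h1 h2 => hp.trans (Rep.off' D P hr.1 h1 hr.2 h2)

variable (hinv : ∃ y, y * D.T.x * y⁻¹ = D.T.x⁻¹)

theorem Rep.exists_a0_bar : ∀ v, D.T.r (bar D ⟨P.e, P.mem⟩) v = ![v 1, v 0, v 3, v 2, v 4, v 5] := P.eact

theorem conj_mem_bar {g : HH} (hg : (g : G) ∈ N0 D) (a : A0 D) :
    bar D ⟨(g : G) * a * (g : G)⁻¹, N0_conj_A0 D hg a.2⟩ = mk g * bar D a * (mk g)⁻¹ := by
  rw [bar_mk, bar_mk, show (⟨_, A0_le_cz D (N0_conj_A0 D hg a.2)⟩ : HH) = g * ⟨a.1, A0_le_cz D a.2⟩ * g⁻¹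
    from rfl, map_mul, map_mul, map_inv]

include hinv in
theorem Rep.cover {t : HH ⧸ Q} (ht : t ∈ fixW D.T) (ht1 : t ≠ 1) :
    ∃ g ∈ N0 D, ∀ b : A0 D, bar D b = t ↔ ∃ r ∈ R0 D, g * (P.e * r) * g⁻¹ = b := by
  obtain ⟨c, hc, e⟩ := fix_transitive D.T hinv (bar_mem D ⟨P.e, P.mem⟩) (Rep.exists_a0_bar D P) ht ht1
  obtain ⟨c, rfl⟩ := QuotientGroup.mk'_surjective Q c
  have hg : (c : G) ∈ N0 D := (mem_N0 D).2 ⟨c, hc, rfl⟩
  refine ⟨c, hg, fun b => ⟨fun hb => ?_, ?_⟩⟩
  · have hb' : (c : G)⁻¹ * b * (c : G) ∈ A0 D := by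
      have := N0_conj_A0 D (inv_mem hg) b.2
      rwa [inv_inv] at this
    have h := conj_mem_bar D (g := c⁻¹) (inv_mem hg) b
    rw [hb, ← e, map_inv, inv_inv] at h
    have h' : bar D ⟨(c : G)⁻¹ * b * (c : G), hb'⟩ = bar D ⟨P.e, P.mem⟩ := by
      rw [show (⟨(c : G)⁻¹ * b * (c : G), hb'⟩ : A0 D) = ⟨((c⁻¹ : HH) : G) * b * ((c⁻¹ : HH) : G)⁻¹,
        N0_conj_A0 D (inv_mem hg) b.2⟩ from Subtype.ext (by simp), h]
      group
    refine ⟨P.e⁻¹ * ((c : G)⁻¹ * b * (c : G)),
      (bar_eq_one D (a := ⟨P.e, P.mem⟩⁻¹ * ⟨_, hb'⟩)).1 (by rw [map_mul, map_inv, h', inv_mul_cancel]), ?_⟩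
    group
  · rintro ⟨r, hr, hb⟩
    rw [show b = ⟨(c : G) * (⟨P.e, P.mem⟩ * ⟨r, R0_le_A0 D hr⟩ : A0 D) * (c : G)⁻¹, N0_conj_A0 D hg (⟨P.e, P.mem⟩ * ⟨r, R0_le_A0 D hr⟩ : A0 D).2⟩ from
      Subtype.ext hb.symm, conj_mem_bar D hg, map_mul, (bar_eq_one D (a := ⟨r, R0_le_A0 D hr⟩)).2 hr, mul_one]
    exact e

include hinv in
theorem Rep.cover' {b : G} (hb : b ∈ A0 D) (hR : b ∉ R0 D) :
    ∃ g ∈ N0 D, ∃ r ∈ R0 D, g * (P.e * r) * g⁻¹ = b := by
  obtain ⟨g, hg, h⟩ := Rep.cover D P hinv (bar_mem D ⟨b, hb⟩) fun e => hR ((bar_eq_one D).1 e)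
  exact ⟨g, hg, (h ⟨b, hb⟩).1 rfl⟩

theorem conj_z_conj (g a : G) : IsConj z (g * a * g⁻¹) ↔ IsConj z a :=
  ⟨fun h => h.trans (isConj_iff.2 ⟨g, rfl⟩).symm, fun h => h.trans (isConj_iff.2 ⟨g, rfl⟩)⟩

include hinv in
theorem Rep.outside_count :
    ((elems (A0 D)).filter fun b => IsConj z b ∧ b ∉ R0 D).card = 15 * Rep.fib D P := by
  classical
  haveI : Fintype (fixW D.T) := Fintype.ofFinite _
  let bG : G → HH ⧸ Q := fun g => if h : g ∈ A0 D then bar D ⟨g, h⟩ else 1
  rw [Finset.card_eq_sum_card_fiberwise (f := bG)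
    (t := ((Finset.univ : Finset (fixW D.T)).map ⟨Subtype.val, Subtype.val_injective⟩).erase 1)]
  · rw [Finset.sum_const_nat (m := Rep.fib D P) fun t ht => ?_]
    · congr 1
      rw [Finset.card_erase_of_mem, Finset.card_map, Finset.card_univ, ← Nat.card_eq_fintype_card,
        card_fixW D.T hinv]
      exact Finset.mem_map.2 ⟨1, Finset.mem_univ _, rfl⟩
    · simp only [Finset.mem_erase, Finset.mem_map, Finset.mem_univ, true_and, Function.Embedding.coeFn_mk] at ht
      obtain ⟨ht1, ⟨⟨t', ht'⟩, rfl⟩⟩ := ht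
      obtain ⟨g, hg, hh⟩ := Rep.cover D P hinv ht' ht1
      symm
      refine Finset.card_bij (fun r _ => g * (P.e * r) * g⁻¹) ?_ ?_ ?_
      · intro r hr
        simp only [Finset.mem_filter, mem_elems] at hr ⊢
        have hA : g * (P.e * r) * g⁻¹ ∈ A0 D := N0_conj_A0 D hg (mul_mem P.mem (R0_le_A0 D hr.1))
        have hb := (hh ⟨_, hA⟩).2 ⟨r, hr.1, rfl⟩
        exact ⟨⟨hA, (conj_z_conj g _).2 hr.2, fun hR => ht1 (hb.symm.trans ((bar_eq_one D).2 hR))⟩,
          (dif_pos hA).trans hb⟩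
      · intro r _ r' _ e
        exact mul_left_cancel (mul_left_cancel (mul_right_cancel e))
      · intro b hb
        simp only [Finset.mem_filter, mem_elems] at hb
        obtain ⟨r, hr, e⟩ := (hh ⟨b, hb.1.1⟩).1 ((dif_pos hb.1.1).symm.trans hb.2)
        refine ⟨r, Finset.mem_filter.2 ⟨mem_elems.2 hr, ?_⟩, e⟩
        exact (conj_z_conj g _).1 (e.symm ▸ hb.1.2.1)
  · intro b hb
    simp only [Finset.mem_coe, Finset.mem_filter, mem_elems] at hb
    simp only [Finset.mem_coe, Finset.mem_erase, Finset.mem_map, Finset.mem_univ, true_and,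
      Function.Embedding.coeFn_mk, bG, dif_pos hb.1]
    exact ⟨fun e => hb.2.2 ((bar_eq_one D).1 e), ⟨⟨_, bar_mem D _⟩, rfl⟩⟩

include hgs hsz hinv in
theorem z_total :
    ((elems (A0 D)).filter fun b => IsConj z b).card = 91 + 15 * Rep.fib D P := by
  rw [← R0_z_count D hgs hsz, ← Rep.outside_count D P hinv, ← Finset.card_union_of_disjoint]
  · congr 1
    ext b
    simp only [Finset.mem_union, Finset.mem_filter, mem_elems]
    constructor
    · rintro ⟨h1, h2⟩
      by_cases h : b ∈ R0 D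
      exacts [Or.inl ⟨h, h2⟩, Or.inr ⟨h1, h2, h⟩]
    · rintro (⟨h1, h2⟩ | ⟨h1, h2, -⟩)
      exacts [⟨R0_le_A0 D h1, h2⟩, ⟨h1, h2⟩]
  · refine Finset.disjoint_left.2 fun b h h' => ?_
    exact (Finset.mem_filter.1 h').2.2 (mem_elems.1 (Finset.mem_filter.1 h).1)

include hinv in
theorem prime_not_dvd {p : ℕ} (hp : p.Prime) (hp2 : p ∈ ([13, 331, 571, 1531, 2011] : List ℕ)) :
    ¬ p ∣ Nat.card (normalizer (A0 D : Set G)) := by
  classical
  intro hdvd
  haveI := Fact.mk hp
  obtain ⟨m, hm⟩ := exists_prime_orderOf_dvd_card' p hdvd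
  have hn : ∀ n : ℕ, ∀ a ∈ A0 D, ((m : G) ^ n) * a * ((m : G) ^ n)⁻¹ ∈ A0 D := fun n a ha =>
    (mem_normalizer_iff.1 (pow_mem m.2 n) a).1 ha
  let σ : Equiv.Perm (A0 D) :=
    { toFun := fun a => ⟨(m : G) * a * (m : G)⁻¹, (mem_normalizer_iff.1 m.2 a).1 a.2⟩
      invFun := fun a => ⟨(m : G)⁻¹ * a * (m : G), by
        have := (mem_normalizer_iff.1 (inv_mem m.2) a).1 a.2
        rwa [inv_inv] at this⟩
      left_inv := fun a => Subtype.ext (by show (m : G)⁻¹ * ((m : G) * a * (m : G)⁻¹) * m = a; group)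
      right_inv := fun a => Subtype.ext (by show (m : G) * ((m : G)⁻¹ * a * (m : G)) * (m : G)⁻¹ = a; group) }
  have hpow : ∀ n (a : A0 D), ((σ ^ n) a : G) = (m : G) ^ n * a * ((m : G) ^ n)⁻¹ := by
    intro n
    induction n with
    | zero => intro a; simp
    | succ n ih =>
      intro a
      rw [pow_succ' σ, Equiv.Perm.mul_apply, pow_succ' (m : G)]
      show (m : G) * ((σ ^ n) a : G) * (m : G)⁻¹ = _
      rw [ih]; group
  have hσ : σ ^ p ^ 1 = 1 := by
    refine Equiv.ext fun a => Subtype.ext ?_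
    rw [pow_one, hpow, show (m : G) ^ p = 1 from congrArg Subtype.val (hm ▸ pow_orderOf_eq_one m)]
    simp
  haveI : Fintype (A0 D) := Fintype.ofFinite _
  have h := Equiv.Perm.card_compl_support_modEq (p := p) (n := 1) hσ
  let F := A0 D ⊓ centralizer ({(m : G)} : Set G)
  have hF : (σ.supportᶜ).card = Nat.card F := by
    rw [← Nat.card_eq_finsetCard]
    refine Nat.card_eq_of_bijective (fun a => (⟨a.1.1, a.1.2, mem_centralizer_singleton_iff.2 ?_⟩ : F)) ⟨?_, ?_⟩
    · have h1 := a.2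
      simp only [Finset.mem_compl, Equiv.Perm.mem_support, not_not] at h1
      exact (mul_inv_eq_iff_eq_mul.1 (congrArg Subtype.val h1)).symm
    · intro a b e
      exact Subtype.ext (Subtype.ext (congrArg (fun u : F => (u : G)) e))
    · rintro ⟨a, ha, hc⟩
      refine ⟨⟨⟨a, ha⟩, ?_⟩, rfl⟩
      simp only [Finset.mem_compl, Equiv.Perm.mem_support, not_not]
      exact Subtype.ext (mul_inv_eq_iff_eq_mul.2 (mem_centralizer_singleton_iff.1 hc).symm)
  have hA := (card_A0 D hinv).1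
  rw [hF, ← Nat.card_eq_fintype_card, hA] at h
  obtain ⟨j, hj, hFj⟩ := (Nat.dvd_prime_pow Nat.prime_two).1 (hA ▸ Subgroup.card_dvd_of_le inf_le_left :
    Nat.card F ∣ 2 ^ 11)
  rcases hj.lt_or_eq with hj' | rfl
  · rw [hFj] at h
    exact prime_check p hp2 ⟨j, hj'⟩ h
  · have hle : (m : G) ∈ A0 D := by
      refine centralizer_A0_le D (mem_centralizer_iff.2 fun a ha => ?_)
      have heq : F = A0 D := Subgroup.eq_of_le_of_card_ge inf_le_left (by rw [hFj, hA])
      exact mem_centralizer_singleton_iff.1 (heq ▸ ha : a ∈ F).2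
    have hone : (m : G) ^ 2 = 1 := by rw [pow_two, (A0_elementary D hinv).1 _ hle]
    have := orderOf_dvd_of_pow_eq_one hone
    rw [Subgroup.orderOf_coe, hm] at this
    rcases (Nat.dvd_prime Nat.prime_two).1 this with e | e <;> subst e <;> simp at hp2

variable (hu : Uniq z)

include hgs hsz hinv hu in
theorem z_count_dvd : ((elems (A0 D)).filter fun b => IsConj z b).card ∣
    Nat.card (normalizer (A0 D : Set G)) := by
  classical
  set M := normalizer (A0 D : Set G)
  letI : MulAction M G := MulAction.compHom G ((ConjAct.toConjAct (G := G)).toMonoidHom.comp M.subtype)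
  have hsmul : ∀ (m : M) (a : G), m • a = (m : G) * a * (m : G)⁻¹ := fun m a => ConjAct.smul_def _ _
  have hz : z ∈ A0 D := R0_le_A0 D (z_mem_R0 D)
  have h : Nat.card (MulAction.orbit M z) = ((elems (A0 D)).filter fun b => IsConj z b).card := by
    rw [← Nat.card_eq_finsetCard]
    refine Nat.card_congr (Equiv.subtypeEquivRight fun b => ?_)
    rw [MulAction.mem_orbit_iff, Finset.mem_filter, mem_elems]
    constructor
    · rintro ⟨m, rfl⟩
      rw [hsmul]
      exact ⟨(mem_normalizer_iff.1 m.2 z).1 hz, isConj_iff.2 ⟨m, rfl⟩⟩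
    · rintro ⟨hb, hc⟩
      obtain ⟨g, rfl⟩ := isConj_iff.1 hc
      obtain ⟨m, hm, e⟩ := fusion D hinv hu hz hb
      exact ⟨⟨m, hm⟩, by rw [hsmul]; exact e⟩
  rw [← h, Nat.card_congr (MulAction.orbitEquivQuotientStabilizer M z), ← Subgroup.index_eq_card]
  exact Subgroup.index_dvd_card _

include hgs hsz hinv hu in
/-- The class counts. -/
theorem main_count : ((elems (A0 D)).filter fun b => IsConj z b).card = 1771 ∧
    ((IsConj z P.e ∧ ¬ IsConj z (P.e * z)) ∨ (¬ IsConj z P.e ∧ IsConj z (P.e * z))) ∧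
    ∀ r ∈ R0 D, ¬ InL (πG D r) → IsConj z (P.e * r) := by
  have h := z_total D hgs hsz P hinv
  have hd := z_count_dvd D hgs hsz hinv hu
  rw [Rep.fib_eq D P] at h
  have hno : ∀ n p : ℕ, p.Prime → p ∈ ([13, 331, 571, 1531, 2011] : List ℕ) → p ∣ n →
      ((elems (A0 D)).filter fun b => IsConj z b).card ≠ n := fun n p hp hp2 hpn e =>
    prime_not_dvd D hinv hp hp2 (hpn.trans (e ▸ hd))
  by_cases hc : ∀ r ∈ R0 D, ¬ InL (πG D r) → IsConj z (P.e * r) <;>
    by_cases ha : IsConj z P.e <;> by_cases hb : IsConj z (P.e * z) <;>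
      (first | rw [if_pos hc] at h | rw [if_neg hc] at h) <;>
      (first | rw [if_pos ha] at h | rw [if_neg ha] at h) <;>
      (first | rw [if_pos hb] at h | rw [if_neg hb] at h) <;> norm_num only at h
  all_goals first
    | exact ⟨h, Or.inl ⟨ha, hb⟩, hc⟩
    | exact ⟨h, Or.inr ⟨ha, hb⟩, hc⟩
    | exact (hno 91 13 (by norm_num) (by simp) (by norm_num) h).elim
    | exact (hno 331 331 (by norm_num) (by simp) dvd_rfl h).elim
    | exact (hno 571 571 (by norm_num) (by simp) dvd_rfl h).elim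
    | exact (hno 1531 1531 (by norm_num) (by simp) dvd_rfl h).elim
    | exact (hno 2011 2011 (by norm_num) (by simp) dvd_rfl h).elim

end CfsgLib.FiLarge.Thom
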