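import Cfsg.Agent.FiLarge.Stab

/-!
The standard totally singular plane and its stabilisers in the standard form of the quotient.
-/

set_option autoImplicit false
set_option maxRecDepth 100000
set_option linter.style.haveILetI false

namespace CfsgLib.FiLarge.Thom

open CfsgLib Subgroup Matrix

/-- Membership in the standard plane. -/
def InW (a : V6) : Prop := a 0 = a 1 ∧ a 2 = a 3 ∧ a 4 = a 5

instance (a : V6) : Decidable (InW a) := by unfold InW; infer_instance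

/-- The vectors of the plane. -/
def w3 (a b c : F4) : V6 := ![a, a, b, b, c, c]

theorem inW_w3 (a b c : F4) : InW (w3 a b c) := ⟨rfl, rfl, rfl⟩

theorem w3_eq {w : V6} (hw : InW w) : w3 (w 0) (w 2) (w 4) = w := by
  obtain ⟨h1, h2, h3⟩ := hw
  funext i
  fin_cases i <;> first | rfl | exact h1 | exact h2 | exact h3

theorem qn_w3 : ∀ a b c : F4, qn (w3 a b c) = 0 := by decide +kernel

theorem qn_inW {w : V6} (hw : InW w) : qn w = 0 := by rw [← w3_eq hw]; exact qn_w3 _ _ _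

theorem InW.add {u v : V6} (hu : InW u) (hv : InW v) : InW (u + v) :=
  ⟨congrArg₂ (· + ·) hu.1 hv.1, congrArg₂ (· + ·) hu.2.1 hv.2.1, congrArg₂ (· + ·) hu.2.2 hv.2.2⟩

theorem InW.smul {u : V6} (hu : InW u) (c : F4) : InW (c • u) :=
  ⟨congrArg (c * ·) hu.1, congrArg (c * ·) hu.2.1, congrArg (c * ·) hu.2.2⟩

theorem inW_zero : InW 0 := ⟨rfl, rfl, rfl⟩

theorem herm_w3 (u : V6) : herm u (w3 1 0 0) = u 0 + u 1 ∧ herm u (w3 0 1 0) = u 2 + u 3 ∧
    herm u (w3 0 0 1) = u 4 + u 5 := by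
  refine ⟨?_, ?_, ?_⟩ <;> simp [herm, w3, Fin.sum_univ_six]

theorem add_self_F4 : ∀ x : F4, x + x = 0 := by decide +kernel

theorem eq_of_add_F4 : ∀ x y : F4, x + y = 0 → x = y := by decide +kernel

theorem inW_of_herm {u : V6} (h : ∀ w, InW w → herm u w = 0) : InW u := by
  obtain ⟨e1, e2, e3⟩ := herm_w3 u
  exact ⟨eq_of_add_F4 _ _ (e1 ▸ h _ (inW_w3 _ _ _)), eq_of_add_F4 _ _ (e2 ▸ h _ (inW_w3 _ _ _)),
    eq_of_add_F4 _ _ (e3 ▸ h _ (inW_w3 _ _ _))⟩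

theorem inW_of_perp {u : V6} (h : ∀ w, InW w → qn (u + w) = qn u + qn w) : InW u := by
  refine inW_of_herm fun w hw => ?_
  have h0 : ∀ v, InW v → trF (herm u v) = 0 := fun v hv => by
    rw [← polar_qn, h v hv]
    generalize qn u = s
    generalize qn v = t
    revert s t
    decide
  have h1 : herm u (om • w) = om * om * herm u w := by
    simp only [herm, Pi.smul_apply, smul_eq_mul, Finset.mul_sum]
    exact Finset.sum_congr rfl fun i _ => by ring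
  have h2 := h0 w hw
  have h3 := h0 _ (hw.smul om)
  rw [h1] at h3
  exact (by decide +kernel : ∀ x : F4, trF x = 0 → trF (om * om * x) = 0 → x = 0) _ h2 h3

/-- The short vectors of the plane, for the class of full support given. -/
def Sml (k : Fin 5) (a : V6) : Prop := InW a ∧ (kind a = some 0 ∨ kind a = some k)

instance (k : Fin 5) (a : V6) : Decidable (Sml k a) := by unfold Sml; infer_instance

theorem sml_count : ∀ k : Fin 5, 2 ≤ k →
    (Finset.univ.filter fun t : F4 × F4 × F4 => Sml k (w3 t.1 t.2.1 t.2.2)).card = 18 := by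
  decide +kernel

theorem sml_partner : ∀ k : Fin 5, 2 ≤ k → ∀ a b c : F4, Sml k (w3 a b c) → ∀ a' b' c' : F4,
    Sml k (w3 a' b' c') → (Sml k (w3 (a + a') (b + b') (c + c')) ↔
      (a' = om * a ∧ b' = om * b ∧ c' = om * c) ∨
      (a' = om * om * a ∧ b' = om * om * b ∧ c' = om * om * c)) := by
  decide +kernel

theorem sml_axis : ∀ k : Fin 5, ∀ a : F4, a ≠ 0 →
    Sml k (w3 a 0 0) ∧ Sml k (w3 0 a 0) ∧ Sml k (w3 0 0 a) := by
  decide +kernel

theorem sml_not : ∀ k : Fin 5, 2 ≤ k → ¬ Sml k (w3 1 1 0) := by decide +kernel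

theorem sml_zero : ∀ k : Fin 5, ¬ Sml k (w3 0 0 0) := by decide +kernel

theorem sml_first : ∀ k : Fin 5, 2 ≤ k → ∀ c d : F4, d ≠ 0 →
    (Sml k (w3 c d 0) → c = 0) ∧ (Sml k (w3 c 0 d) → c = 0) := by decide +kernel

theorem sml_scale : ∀ k : Fin 5, 2 ≤ k → ∃ c : F4, c ≠ 0 ∧ Sml k (w3 1 1 c) ∧
    ∀ d : F4, d ≠ 0 → Sml k (w3 1 d (d * c)) → d = 1 := by decide +kernel

/-- The entries of the prime field. -/
def castF (p : ZMod 2) : F4 := ⟨p, 0⟩

/-- The index type of the pointwise stabiliser. -/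
abbrev Hx : Type := ZMod 2 × F4 × ZMod 2

/-- The matrices of the pointwise stabiliser on the tail. -/
def umat (h : Hx) : Matrix (Fin 4) (Fin 4) F4 :=
  !![1 + castF h.1, castF h.1, h.2.1, h.2.1;
     castF h.1, 1 + castF h.1, h.2.1, h.2.1;
     h.2.1 * h.2.1, h.2.1 * h.2.1, 1 + castF h.2.2, castF h.2.2;
     h.2.1 * h.2.1, h.2.1 * h.2.1, castF h.2.2, 1 + castF h.2.2]

/-- The determinant in four variables. -/
def det4 (M : Matrix (Fin 4) (Fin 4) F4) : F4 :=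
  M 0 0 * (M 1 1 * (M 2 2 * M 3 3 - M 2 3 * M 3 2) - M 1 2 * (M 2 1 * M 3 3 - M 2 3 * M 3 1) +
      M 1 3 * (M 2 1 * M 3 2 - M 2 2 * M 3 1)) -
    M 0 1 * (M 1 0 * (M 2 2 * M 3 3 - M 2 3 * M 3 2) - M 1 2 * (M 2 0 * M 3 3 - M 2 3 * M 3 0) +
      M 1 3 * (M 2 0 * M 3 2 - M 2 2 * M 3 0)) +
    M 0 2 * (M 1 0 * (M 2 1 * M 3 3 - M 2 3 * M 3 1) - M 1 1 * (M 2 0 * M 3 3 - M 2 3 * M 3 0) +
      M 1 3 * (M 2 0 * M 3 1 - M 2 1 * M 3 0)) -
    M 0 3 * (M 1 0 * (M 2 1 * M 3 2 - M 2 2 * M 3 1) - M 1 1 * (M 2 0 * M 3 2 - M 2 2 * M 3 0) +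
      M 1 2 * (M 2 0 * M 3 1 - M 2 1 * M 3 0))

theorem det4_eq (M : Matrix (Fin 4) (Fin 4) F4) : M.det = det4 M := by
  rw [Matrix.det_succ_row_zero]
  simp [Fin.sum_univ_succ, Matrix.det_fin_three, det4, Fin.succAbove]
  ring

/-- The condition on a matrix to lie in the special unitary group. -/
def IsU (M : Matrix (Fin 4) (Fin 4) F4) : Prop :=
  det4 M = 1 ∧ ∀ k m : Fin 4, M 0 k * M 0 m ^ 2 + M 1 k * M 1 m ^ 2 + M 2 k * M 2 m ^ 2 + M 3 k * M 3 m ^ 2 =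
    if k = m then 1 else 0

instance (M : Matrix (Fin 4) (Fin 4) F4) : Decidable (IsU M) := by unfold IsU; infer_instance

theorem sq_add4 : ∀ x y : F4, (x + y) ^ 2 = x ^ 2 + y ^ 2 := by decide +kernel

theorem mem_SU4 {M : Matrix (Fin 4) (Fin 4) F4} (h : IsU M) :
    (⟨M, (det4_eq M).trans h.1⟩ : Matrix.SpecialLinearGroup (Fin 4) F4) ∈ Cfsg.SU 4 F4 2 := by
  intro u v
  show Cfsg.hermForm 4 F4 2 (M *ᵥ u) (M *ᵥ v) = Cfsg.hermForm 4 F4 2 u v
  have h00 := h.2 0 0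
  have h01 := h.2 0 1
  have h02 := h.2 0 2
  have h03 := h.2 0 3
  have h10 := h.2 1 0
  have h11 := h.2 1 1
  have h12 := h.2 1 2
  have h13 := h.2 1 3
  have h20 := h.2 2 0
  have h21 := h.2 2 1
  have h22 := h.2 2 2
  have h23 := h.2 2 3
  have h30 := h.2 3 0
  have h31 := h.2 3 1
  have h32 := h.2 3 2
  have h33 := h.2 3 3
  simp only [Fin.reduceEq, if_true, if_false] at h00 h01 h02 h03 h10 h11 h12 h13 h20 h21 h22 h23 h30 h31 h32 h33
  simp only [Cfsg.hermForm, Matrix.mulVec, dotProduct, Fin.sum_univ_four, sq_add4, mul_pow]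
  linear_combination u 0 * v 0 ^ 2 * h00 + u 0 * v 1 ^ 2 * h01 + u 0 * v 2 ^ 2 * h02 + u 0 * v 3 ^ 2 * h03 +
    u 1 * v 0 ^ 2 * h10 + u 1 * v 1 ^ 2 * h11 + u 1 * v 2 ^ 2 * h12 + u 1 * v 3 ^ 2 * h13 +
    u 2 * v 0 ^ 2 * h20 + u 2 * v 1 ^ 2 * h21 + u 2 * v 2 ^ 2 * h22 + u 2 * v 3 ^ 2 * h23 +
    u 3 * v 0 ^ 2 * h30 + u 3 * v 1 ^ 2 * h31 + u 3 * v 2 ^ 2 * h32 + u 3 * v 3 ^ 2 * h33

/-- An element of the special unitary group from a matrix. -/
def suElt (M : Matrix (Fin 4) (Fin 4) F4) (h : IsU M) : Cfsg.SU 4 F4 2 :=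
  ⟨⟨M, (det4_eq M).trans h.1⟩, mem_SU4 h⟩

theorem umat_isU : ∀ h : Hx, IsU (umat h) := by decide +kernel

/-- The vectors on the tail spanning the plane. -/
def tv2 : Fin 4 → F4 := ![1, 1, 0, 0]

/-- The second vector on the tail. -/
def tv3 : Fin 4 → F4 := ![0, 0, 1, 1]

theorem umat_fix : ∀ h : Hx, umat h *ᵥ tv2 = tv2 ∧ umat h *ᵥ tv3 = tv3 := by decide +kernel

theorem umat_inj : ∀ h h' : Hx, umat h = umat h' → h = h' := by decide +kernel

theorem umat_one : umat 0 = 1 := by decide +kernel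

theorem col_two : ∀ a b c d : F4, a * a ^ 2 + b * b ^ 2 + c * c ^ 2 + d * d ^ 2 = 1 → a + b = 1 → c + d = 0 →
    ∃ p : ZMod 2, a = 1 + castF p ∧ b = castF p ∧ c = d := by
  intro a b c d h1 h2 h3
  have h : ∀ a b c d : F4, a * a ^ 2 + b * b ^ 2 + c * c ^ 2 + d * d ^ 2 = 1 → a + b = 1 → c + d = 0 →
      b.im = 0 ∧ a = 1 + b ∧ c = d := by decide +kernel
  obtain ⟨e1, e2, e3⟩ := h a b c d h1 h2 h3
  have eb : b = castF b.re := QuadraticAlgebra.ext rfl e1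
  exact ⟨b.re, by rw [← eb]; exact e2, eb, e3⟩

theorem col_cross : ∀ p r : ZMod 2, ∀ q t : F4,
    (1 + castF p) * q ^ 2 + castF p * q ^ 2 + t * (1 + castF r) ^ 2 + t * castF r ^ 2 = 0 →
      t = q * q := by
  decide +kernel

theorem umat_shape {M : Matrix (Fin 4) (Fin 4) F4}
    (hU : ∀ k m : Fin 4, M 0 k * M 0 m ^ 2 + M 1 k * M 1 m ^ 2 + M 2 k * M 2 m ^ 2 + M 3 k * M 3 m ^ 2 =
      if k = m then 1 else 0)
    (h2 : M *ᵥ tv2 = tv2) (h3 : M *ᵥ tv3 = tv3) : ∃ h, M = umat h := by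
  have c2 : ∀ i, M i 0 + M i 1 = tv2 i := fun i => by
    have := congrFun h2 i
    simpa [Matrix.mulVec, dotProduct, Fin.sum_univ_four, tv2] using this
  have c3 : ∀ i, M i 2 + M i 3 = tv3 i := fun i => by
    have := congrFun h3 i
    simpa [Matrix.mulVec, dotProduct, Fin.sum_univ_four, tv3] using this
  have f : ∀ i, M i 1 = tv2 i + M i 0 ∧ M i 3 = tv3 i + M i 2 := fun i => by
    constructor
    · rw [← c2 i, add_comm (M i 0), add_assoc, add_self_F4, add_zero]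
    · rw [← c3 i, add_comm (M i 2), add_assoc, add_self_F4, add_zero]
  have h00 := hU 0 0
  have h01 := hU 0 1
  have h03 := hU 0 3
  have h22 := hU 2 2
  have h23 := hU 2 3
  have h21 := hU 2 1
  have h02 := hU 0 2
  simp only [if_true] at h00 h22
  rw [if_neg (by decide)] at h01 h03 h23 h21 h02
  have e1 : M 0 0 + M 1 0 = 1 := by
    simp [(f 0).1, (f 1).1, (f 2).1, (f 3).1, tv2, sq_add4] at h01
    linear_combination h01 - h00 - (1 : F4) * add_self_F4 1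
  have e2 : M 2 0 + M 3 0 = 0 := by
    simp [(f 0).2, (f 1).2, (f 2).2, (f 3).2, tv3, sq_add4] at h03
    linear_combination h03 - h02
  have e3 : M 2 2 + M 3 2 = 1 := by
    simp [(f 0).2, (f 1).2, (f 2).2, (f 3).2, tv3, sq_add4] at h23
    linear_combination h23 - h22 - (1 : F4) * add_self_F4 1
  have e4 : M 0 2 + M 1 2 = 0 := by
    simp [(f 0).1, (f 1).1, (f 2).1, (f 3).1, tv2, sq_add4] at h21
    linear_combination h21 - (hU 2 0).trans (if_neg (by decide))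
  obtain ⟨p, a1, a2, a3⟩ := col_two _ _ _ _ h00 e1 e2
  obtain ⟨r, b1, b2, b3⟩ := col_two _ _ _ _
    (show M 2 2 * M 2 2 ^ 2 + M 3 2 * M 3 2 ^ 2 + M 0 2 * M 0 2 ^ 2 + M 1 2 * M 1 2 ^ 2 = 1 by
      linear_combination h22) e3 e4
  rw [a1, a2, a3, b1, b2, b3] at h02
  have ht := col_cross p r _ _ h02
  refine ⟨(p, M 1 2, r), Matrix.ext fun i j => ?_⟩
  have t : ∀ i, M i 1 = tv2 i + M i 0 ∧ M i 3 = tv3 i + M i 2 := f
  have h2' : ∀ x : F4, 1 + (1 + x) = x := by decide +kernel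
  fin_cases i <;> fin_cases j <;>
    simp [umat, (t 0).1, (t 0).2, (t 1).1, (t 1).2, (t 2).1, (t 2).2, (t 3).1, (t 3).2, tv2, tv3, a1, a2,
      a3, b1, b2, b3, ht, h2']

/-- The three matrices normalising the pointwise stabiliser. -/
def gmat : Fin 3 → Matrix (Fin 4) (Fin 4) F4 :=
  ![!![1 + om, om, 1, 0; om, 1 + om, 1, 0; 1, 1, 1, 0; 0, 0, 0, 1],
    !![om, 0, 0, 0; 0, om, 0, 0; 0, 0, om * om, 0; 0, 0, 0, om * om],
    !![0, 0, 1, 0; 0, 0, 0, 1; 1, 0, 0, 0; 0, 1, 0, 0]]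

/-- Their action on the index type. -/
def step : Fin 3 → Hx → Hx :=
  ![fun h => (h.1 + h.2.2 + h.2.1.im, h.2.1 + castF h.2.2, h.2.2),
    fun h => (h.1, om * om * h.2.1, h.2.2),
    fun h => (h.2.2, h.2.1 * h.2.1, h.1)]

theorem gmat_isU : ∀ i, IsU (gmat i) := by decide +kernel

theorem gmat_plane : ∀ i, (gmat i *ᵥ tv2) 0 = (gmat i *ᵥ tv2) 1 ∧ (gmat i *ᵥ tv2) 2 = (gmat i *ᵥ tv2) 3 ∧
    (gmat i *ᵥ tv3) 0 = (gmat i *ᵥ tv3) 1 ∧ (gmat i *ᵥ tv3) 2 = (gmat i *ᵥ tv3) 3 := by decide +kernel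

theorem gmat_step : ∀ i h, gmat i * umat h = umat (step i h) * gmat i := by decide +kernel

/-- All words up to a length. -/
def words : ℕ → List (List (Fin 3))
  | 0 => [[]]
  | n + 1 => [] :: ((words n).flatMap fun w => [0 :: w, 1 :: w, 2 :: w])

theorem step_cover : ∀ h : Hx, h ≠ 0 →
    ∃ w ∈ words 5, w.foldr step (1, 0, 0) = h ∨ w.foldr step (1, 0, 1) = h := by
  decide +kernel

theorem gmat_five : (gmat 0 * gmat 1 * gmat 2) ^ 5 = 1 ∧ gmat 0 * gmat 1 * gmat 2 ≠ 1 := by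
  decide +kernel

end CfsgLib.FiLarge.Thom
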