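import Cfsg.Agent.FiLarge.Thom.Orbit
import Cfsg.Agent.DuadCode.Code
import Cfsg.Agent.Golay.Mathieu

/-!
The action of the normaliser on the 276 involutions and the Mathieu group.
-/

set_option autoImplicit false
set_option quotPrecheck false
set_option maxRecDepth 100000
set_option linter.style.haveILetI false
set_option linter.unusedSectionVars false

namespace CfsgLib.FiLarge.Thom

open CfsgLib Subgroup
open CfsgLib.FiLarge.Dat (val)

attribute [local instance] Classical.propDecidable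

variable {G : Type*} [Group G] [Finite G] {z : G} {Q : Subgroup (centralizer ({z} : Set G))} [Q.Normal]
  (D : Dat z Q) {gs : G} {s : Q} (hgs : gs * z * gs⁻¹ = val s) (hsz : val s ≠ z) (hu : Uniq z)

include hgs hsz in
theorem mul_cases {u w : G} (h1 : u ∈ nS D) (h2 : w ∈ nS D) :
    (w = u ∨ u * w ∈ nS D ∨ IsConj z (u * w)) ∧ (IsConj z (u * w) → w ≠ u ∧ u * w ∉ nS D) := by
  have huA := ((mem_nS D).1 h1).1
  have hwA := ((mem_nS D).1 h2).1
  constructor
  · by_cases e : w = u
    · exact Or.inl e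
    by_cases hz : IsConj z (u * w)
    · exact Or.inr (Or.inr hz)
    refine Or.inr (Or.inl ((mem_nS D).2 ⟨mul_mem huA hwA, fun e1 => e ?_, hz⟩))
    exact mul_left_cancel (e1.trans (sq_A0 D hgs hsz huA).symm)
  · refine fun hz => ⟨fun e => ?_, fun h => ((mem_nS D).1 h).2.2 hz⟩
    rw [e, sq_A0 D hgs hsz huA] at hz
    exact not_conj_one D hz

/-- The neighbours. -/
noncomputable def nb (t : G) : Finset G := (nS D).filter fun u => t * u ∈ nS D

/-- The non-neighbours. -/
noncomputable def zn (t : G) : Finset G := (nS D).filter fun u => IsConj z (t * u)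

include hgs hsz hu in
theorem card_zn {t : G} (ht : t ∈ nS D) : (zn D t).card = 231 := by
  classical
  have hconst : ∀ a ∈ nS D, ∀ b ∈ nS D, (zn D a).card = (zn D b).card := by
    intro a ha b hb
    obtain ⟨m, hm, rfl⟩ := nS_move D hgs hsz hu ha hb
    refine Finset.card_bij' (fun u _ => m * u * m⁻¹) (fun u _ => m⁻¹ * u * m) ?_ ?_ ?_ ?_
    · intro u hu'
      rw [zn, Finset.mem_filter] at hu' ⊢
      exact ⟨(nS_map D hm).2 hu'.1, by rw [conj_mul, conj_z_conj]; exact hu'.2⟩
    · intro u hu'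
      rw [zn, Finset.mem_filter] at hu' ⊢
      refine ⟨by rw [← nS_map D hm, show m * (m⁻¹ * u * m) * m⁻¹ = u by group]; exact hu'.1, ?_⟩
      rw [← conj_z_conj m, ← conj_mul, show m * (m⁻¹ * u * m) * m⁻¹ = u by group]; exact hu'.2
    all_goals intro u _; group
  obtain ⟨P⟩ := exists_rep D (hinv_of D hgs hsz)
  obtain ⟨hN, -, -⟩ := main_count D hgs hsz P (hinv_of D hgs hsz) hu
  have hsum : ∑ t ∈ nS D, (zn D t).card =
      ∑ c ∈ (elems (A0 D)).filter fun c => IsConj z c, ((nS D).filter fun u => u * c ∈ nS D).card := by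
    rw [← Finset.card_sigma, ← Finset.card_sigma]
    refine Finset.card_bij' (fun p _ => ⟨p.1 * p.2, p.1⟩) (fun p _ => ⟨p.2, p.2 * p.1⟩) ?_ ?_ ?_ ?_
    · rintro ⟨a, b⟩ hp
      rw [Finset.mem_sigma, zn, Finset.mem_filter] at hp
      have hA := ((mem_nS D).1 hp.1).1
      refine Finset.mem_sigma.2 ⟨Finset.mem_filter.2 ⟨mem_elems.2 (mul_mem hA ((mem_nS D).1 hp.2.1).1), hp.2.2⟩,
        Finset.mem_filter.2 ⟨hp.1, ?_⟩⟩
      show a * (a * b) ∈ nS D
      rw [← mul_assoc, sq_A0 D hgs hsz hA, one_mul]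
      exact hp.2.1
    · rintro ⟨c, a⟩ hp
      simp only [Finset.mem_sigma, Finset.mem_filter, mem_elems] at hp
      refine Finset.mem_sigma.2 ⟨hp.2.1, Finset.mem_filter.2 ⟨hp.2.2, ?_⟩⟩
      rw [← mul_assoc, sq_A0 D hgs hsz ((mem_nS D).1 hp.2.1).1, one_mul]
      exact hp.1.2
    · rintro ⟨a, b⟩ hp
      rw [Finset.mem_sigma] at hp
      simp [← mul_assoc, sq_A0 D hgs hsz ((mem_nS D).1 hp.1).1]
    · rintro ⟨c, a⟩ hp
      simp only [Finset.mem_sigma, Finset.mem_filter] at hp
      simp [← mul_assoc, sq_A0 D hgs hsz ((mem_nS D).1 hp.2.1).1]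
  rw [Finset.sum_const_nat (fun a ha => hconst a ha t ht),
    Finset.sum_const_nat (m := 36) (fun c hc => pairs D hgs hsz hu (mem_elems.1 (Finset.mem_filter.1 hc).1)
      (Finset.mem_filter.1 hc).2), card_nS D hgs hsz hu, hN] at hsum
  omega

include hgs hsz hu in
theorem card_nb {t : G} (ht : t ∈ nS D) : (nb D t).card = 44 := by
  classical
  have hA := ((mem_nS D).1 ht).1
  have h : nS D = insert t (nb D t ∪ zn D t) := by
    ext u
    simp only [Finset.mem_insert, Finset.mem_union, nb, zn, Finset.mem_filter]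
    constructor
    · intro hu'
      rcases (mul_cases D hgs hsz ht hu').1 with e | e | e
      exacts [Or.inl e, Or.inr (Or.inl ⟨hu', e⟩), Or.inr (Or.inr ⟨hu', e⟩)]
    · rintro (rfl | ⟨h, -⟩ | ⟨h, -⟩)
      exacts [ht, h, h]
  have hd : Disjoint (nb D t) (zn D t) := Finset.disjoint_left.2 fun u h1 h2 =>
    ((mem_nS D).1 (Finset.mem_filter.1 h1).2).2.2 (Finset.mem_filter.1 h2).2
  have hnot : t ∉ nb D t ∪ zn D t := by
    simp only [Finset.mem_union, nb, zn, Finset.mem_filter, sq_A0 D hgs hsz hA]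
    rintro (⟨-, h⟩ | ⟨-, h⟩)
    exacts [((mem_nS D).1 h).2.1 rfl, not_conj_one D h]
  have := congrArg Finset.card h
  rw [Finset.card_insert_of_notMem hnot, Finset.card_union_of_disjoint hd, card_nS D hgs hsz hu,
    card_zn D hgs hsz hu ht] at this
  omega

include hgs hsz hu in
/-- The number of non-edges in a neighbourhood. -/
theorem card_local {t : G} (ht : t ∈ nS D) :
    ∑ u ∈ nb D t, ((nb D t).filter fun w => IsConj z (u * w)).card = 924 := by
  classical
  let cnd : G → G → G → Prop := fun t u w => t * u ∈ nS D ∧ t * w ∈ nS D ∧ IsConj z (u * w)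
  let f : G → ℕ := fun t => ((nS D ×ˢ nS D).filter fun p => cnd t p.1 p.2).card
  have hf : ∀ t, ∑ u ∈ nb D t, ((nb D t).filter fun w => IsConj z (u * w)).card = f t := by
    intro t
    rw [← Finset.card_sigma]
    refine Finset.card_bij' (fun p _ => (p.1, p.2)) (fun p _ => ⟨p.1, p.2⟩) ?_ ?_ (fun _ _ => rfl) (fun _ _ => rfl)
    · rintro ⟨u, w⟩ hp
      simp only [Finset.mem_sigma, nb, Finset.mem_filter, Finset.mem_product, cnd] at hp ⊢
      exact ⟨⟨hp.1.1, hp.2.1.1⟩, hp.1.2, hp.2.1.2, hp.2.2⟩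
    · rintro ⟨u, w⟩ hp
      simp only [Finset.mem_sigma, nb, Finset.mem_filter, Finset.mem_product, cnd] at hp ⊢
      exact ⟨⟨hp.1.1, hp.2.1⟩, ⟨hp.1.2, hp.2.2.1⟩, hp.2.2.2⟩
  have hconst : ∀ a ∈ nS D, f a = f t := by
    intro a ha
    obtain ⟨m, hm, rfl⟩ := nS_move D hgs hsz hu ha ht
    refine Finset.card_bij' (fun p _ => (m * p.1 * m⁻¹, m * p.2 * m⁻¹))
      (fun p _ => (m⁻¹ * p.1 * m, m⁻¹ * p.2 * m)) ?_ ?_ ?_ ?_
    · rintro ⟨u, w⟩ hp
      simp only [Finset.mem_filter, Finset.mem_product, cnd, conj_mul, nS_map D hm, conj_z_conj] at hp ⊢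
      exact hp
    · rintro ⟨u, w⟩ hp
      have e : ∀ x : G, m * (m⁻¹ * x * m) * m⁻¹ = x := fun x => by group
      simp only [Finset.mem_filter, Finset.mem_product, cnd] at hp ⊢
      refine ⟨⟨?_, ?_⟩, ?_, ?_, ?_⟩
      · rw [← nS_map D hm, e]; exact hp.1.1
      · rw [← nS_map D hm, e]; exact hp.1.2
      · rw [← nS_map D hm, ← conj_mul, e]; exact hp.2.1
      · rw [← nS_map D hm, ← conj_mul, e]; exact hp.2.2.1
      · rw [← conj_z_conj m, ← conj_mul, e, e]; exact hp.2.2.2
    all_goals rintro ⟨u, w⟩ _; exact Prod.ext (by group) (by group)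
  have hsum : ∑ a ∈ nS D, f a = 276 * 231 * 4 := by
    have e1 : ∀ a, f a = ∑ u ∈ nS D, ∑ w ∈ zn D u, if a * u ∈ nS D ∧ a * w ∈ nS D then 1 else 0 := by
      intro a
      show Finset.card _ = _
      rw [Finset.card_filter, Finset.sum_product]
      refine Finset.sum_congr rfl fun u _ => ?_
      rw [zn, Finset.sum_filter]
      refine Finset.sum_congr rfl fun w _ => ?_
      by_cases h : IsConj z (u * w) <;> simp only [cnd, h, and_true, and_false, if_true, if_false]
    rw [Finset.sum_congr rfl fun a _ => e1 a, Finset.sum_comm,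
      Finset.sum_const_nat (m := 231 * 4) fun u hu' => ?_, card_nS D hgs hsz hu, mul_assoc]
    rw [Finset.sum_comm, Finset.sum_const_nat (m := 4) fun w hw => ?_, card_zn D hgs hsz hu hu']
    rw [← Finset.card_filter]
    rw [zn, Finset.mem_filter] at hw
    convert (common D hgs hsz hu hu' hw.1 hw.2).1 using 3
  rw [hf t]
  rw [Finset.sum_const_nat hconst, card_nS D hgs hsz hu] at hsum
  omega

include hgs hsz in
theorem four_distinct {t u w : G} (ht : t ∈ A0 D) (hu1 : u ≠ 1) (hw1 : w ≠ 1) (hne : u ≠ w)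
    (huA : u ∈ A0 D) (hwA : w ∈ A0 D) :
    ({t, t * u, t * w, t * u * w} : Finset G).card = 4 := by
  have h1 : t ≠ t * u := fun e => hu1 (mul_eq_left.1 e.symm)
  have h2 : t ≠ t * w := fun e => hw1 (mul_eq_left.1 e.symm)
  have huw : u * w ≠ 1 := fun e => hne (mul_left_cancel ((sq_A0 D hgs hsz huA).trans e.symm))
  have h3 : t ≠ t * u * w := fun e => huw (mul_eq_left.1 (by rw [← mul_assoc]; exact e.symm))
  have h4 : t * u ≠ t * w := fun e => hne (mul_left_cancel e)
  have h5 : t * u ≠ t * u * w := fun e => hw1 (mul_eq_left.1 e.symm)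
  have h6 : t * w ≠ t * u * w := fun e => hu1 (mul_right_cancel (b := w) (by
    rw [one_mul]; exact (mul_left_cancel (e.trans (mul_assoc _ _ _))).symm))
  rw [Finset.card_insert_of_notMem (by simp [h1, h2, h3]), Finset.card_insert_of_notMem (by simp [h4, h5]),
    Finset.card_insert_of_notMem (by simp [h6]), Finset.card_singleton]

include hgs hsz hu in
theorem four_axiom {t u w : G} (h1 : t ∈ nS D) (h2 : u ∈ nS D) (h3 : w ∈ nS D) (h4 : t * u ∈ nS D)
    (h5 : t * w ∈ nS D) (hz : IsConj z (u * w)) : t * u * w ∈ nS D ∧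
      ∀ x ∈ nS D, x * u ∈ nS D → x * w ∈ nS D → x = t ∨ x = t * u ∨ x = t * w ∨ x = t * u * w := by
  classical
  obtain ⟨hc, hmem⟩ := common D hgs hsz hu h2 h3 hz
  have h7 := hmem t h1 h4 h5
  refine ⟨h7, ?_⟩
  have htA := ((mem_nS D).1 h1).1
  have huA := ((mem_nS D).1 h2).1
  have hwA := ((mem_nS D).1 h3).1
  have hne : u ≠ w := fun e => ((mul_cases D hgs hsz h2 h3).2 hz).1 e.symm
  have uu : ∀ a : G, a * u * u = a := fun a => by rw [mul_assoc, sq_A0 D hgs hsz huA, mul_one]
  have ww : ∀ a : G, a * w * w = a := fun a => by rw [mul_assoc, sq_A0 D hgs hsz hwA, mul_one]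
  have swap : ∀ a : G, a * w * u = a * u * w := fun a => by
    rw [mul_assoc, mul_assoc, comm_A0 D hgs hsz hwA huA]
  have hsub : ({t, t * u, t * w, t * u * w} : Finset G) ⊆
      (nS D).filter fun x => x * u ∈ nS D ∧ x * w ∈ nS D := by
    intro x hx
    simp only [Finset.mem_insert, Finset.mem_singleton] at hx
    rw [Finset.mem_filter]
    rcases hx with rfl | rfl | rfl | rfl
    · exact ⟨h1, h4, h5⟩
    · exact ⟨h4, by rw [uu]; exact h1, h7⟩
    · exact ⟨h5, by rw [swap]; exact h7, by rw [ww]; exact h1⟩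
    · exact ⟨h7, by rw [← swap t, uu]; exact h5, by rw [ww]; exact h4⟩
  have heq := Finset.eq_of_subset_of_card_le hsub (by
    rw [hc, four_distinct D hgs hsz htA ((mem_nS D).1 h2).2.1 ((mem_nS D).1 h3).2.1 hne huA hwA])
  intro x hx hxu hxw
  have hx' : x ∈ ({t, t * u, t * w, t * u * w} : Finset G) := by
    rw [heq]; exact Finset.mem_filter.2 ⟨hx, hxu, hxw⟩
  simpa only [Finset.mem_insert, Finset.mem_singleton] using hx'

include hgs hsz hu in
theorem lcm_dvd : 2 ^ 21 * 135 * 1771 ∣ Nat.card (normalizer (A0 D : Set G)) := by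
  have hinv := hinv_of D hgs hsz
  obtain ⟨P⟩ := exists_rep D hinv
  have h1 := pow_dvd_normalizer D hinv hu
  have h2 : 135 ∣ Nat.card (normalizer (A0 D : Set G)) := by
    refine dvd_trans ?_ (Subgroup.card_dvd_of_le (N0_le_normalizer D))
    rw [card_N0]
    exact dvd_mul_of_dvd_left (Nat.Coprime.mul_dvd_of_dvd_of_dvd (m := 27) (n := 5) (by norm_num)
      (twenty_seven_dvd D.T) (five_dvd D.T)) _
  have h3 := (main_count D hgs hsz P hinv hu).1 ▸ z_count_dvd D hgs hsz hinv hu
  exact Nat.Coprime.mul_dvd_of_dvd_of_dvd (by norm_num)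
    (Nat.Coprime.mul_dvd_of_dvd_of_dvd (by norm_num) h1 h2) h3

/-- The involutions of the subgroup labelled by the pairs of points, compatibly with the normaliser. -/
structure Label where
  /-- The involution of a pair. -/
  lab : Cfsg.GolayPt → Cfsg.GolayPt → G
  /-- The element of a set. -/
  ev : Finset Cfsg.GolayPt → G
  /-- The map to the Mathieu group. -/
  φ : ↥(normalizer (A0 D : Set G)) →* Cfsg.M24
  surj : Function.Surjective φ
  ker : ∀ m, φ m = 1 ↔ (m : G) ∈ A0 D
  conj : ∀ (m : ↥(normalizer (A0 D : Set G))) p q,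
    (m : G) * lab p q * (m : G)⁻¹ = lab ((φ m : Equiv.Perm Cfsg.GolayPt) p) ((φ m : Equiv.Perm Cfsg.GolayPt) q)
  self : ∀ p, lab p p = 1
  symm : ∀ p q, lab p q = lab q p
  trans : ∀ p q r, lab p q * lab q r = lab p r
  mem : ∀ p q, p ≠ q → lab p q ∈ nS D
  pair : ∀ p q, p ≠ q → ev {p, q} = lab p q
  ev_mem : ∀ s, ev s ∈ A0 D
  ev_add : ∀ s t, ev (symmDiff s t) = ev s * ev t
  octad : ∀ b ∈ Cfsg.octads, ev b = 1
  four : ∀ s, s.card = 4 → IsConj z (ev s)
  exists_pair : ∀ t ∈ nS D, ∃ p q, p ≠ q ∧ lab p q = t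
  exists_four : ∀ a ∈ A0 D, IsConj z a → ∀ p, ∃ s, s.card = 4 ∧ p ∈ s ∧ ev s = a
  stab : ∀ t ∈ nS D, ∃ p q : Cfsg.GolayPt, p ≠ q ∧ ∀ m : normalizer (A0 D : Set G),
    ((m : G) * t * (m : G)⁻¹ = t ↔
      ((φ m : Equiv.Perm Cfsg.GolayPt) p = p ∧ (φ m : Equiv.Perm Cfsg.GolayPt) q = q) ∨
        ((φ m : Equiv.Perm Cfsg.GolayPt) p = q ∧ (φ m : Equiv.Perm Cfsg.GolayPt) q = p))

include hgs hsz hu in
theorem exists_label : Nonempty (Label D) := by
  classical
  have hinv := hinv_of D hgs hsz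
  letI : CommGroup (A0 D) :=
    { (inferInstance : Group (A0 D)) with mul_comm := fun a b => Subtype.ext (comm_A0 D hgs hsz a.2 b.2) }
  haveI : Fintype (Additive (A0 D)) := Fintype.ofFinite _
  let cv : Additive (A0 D) → G := fun a => ((Additive.toMul a : A0 D) : G)
  have cv_inj : Function.Injective cv := fun a b e => Additive.toMul.injective (Subtype.ext e)
  let S : Finset (Additive (A0 D)) := Finset.univ.filter fun a => cv a ∈ nS D
  have memS : ∀ a, a ∈ S ↔ cv a ∈ nS D := fun a => by simp [S]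
  have lift : ∀ (p : G → Prop) [DecidablePred p] (X : Finset (Additive (A0 D))) (Y : Finset G),
      (∀ a, a ∈ X ↔ cv a ∈ Y) → (∀ g ∈ Y, g ∈ A0 D) →
        (X.filter fun a => p (cv a)).card = (Y.filter p).card := by
    intro p _ X Y hXY hYA
    refine Finset.card_bij (fun a _ => cv a) ?_ (fun a _ b _ e => cv_inj e) ?_
    · intro a ha
      rw [Finset.mem_filter] at ha ⊢
      exact ⟨(hXY a).1 ha.1, ha.2⟩
    · intro g hg
      rw [Finset.mem_filter] at hg
      exact ⟨Additive.ofMul ⟨g, hYA g hg.1⟩, Finset.mem_filter.2 ⟨(hXY _).2 hg.1, hg.2⟩, rfl⟩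
  have hnSA : ∀ g ∈ nS D, g ∈ A0 D := fun g hg => ((mem_nS D).1 hg).1
  have hnbr : ∀ t a, a ∈ DuadCode.nbr S t ↔ cv a ∈ nb D (cv t) := fun t a => by
    rw [DuadCode.mem_nbr, memS, memS, nb, Finset.mem_filter]
    rfl
  have hgeom : DuadCode.Geom S := by
    refine ⟨fun a => cv_inj (sq_A0 D hgs hsz (Additive.toMul a : A0 D).2), ?_, ?_, ?_, ?_, ?_, ?_⟩
    · rw [Nat.card_congr Additive.toMul, (card_A0 D hinv).1]
      norm_num
    · rw [memS]; exact fun h => ((mem_nS D).1 h).2.1 rfl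
    · rw [← card_nS D hgs hsz hu]
      refine Finset.card_bij (fun a _ => cv a) (fun a ha => (memS a).1 ha) (fun a _ b _ e => cv_inj e) ?_
      exact fun g hg => ⟨Additive.ofMul ⟨g, hnSA g hg⟩, (memS _).2 hg, rfl⟩
    · intro t ht
      rw [← card_nb D hgs hsz hu ((memS t).1 ht)]
      refine Finset.card_bij (fun a _ => cv a) (fun a ha => (hnbr t a).1 ha) (fun a _ b _ e => cv_inj e) ?_
      intro g hg
      exact ⟨Additive.ofMul ⟨g, hnSA g (Finset.mem_filter.1 hg).1⟩, (hnbr t _).2 hg, rfl⟩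
    · intro t ht u hu' w hw htu htw hne huw
      simp only [memS] at ht hu' hw htu htw huw
      have hz : IsConj z (cv u * cv w) := by
        rcases (mul_cases D hgs hsz hu' hw).1 with e | e | e
        exacts [absurd (cv_inj e).symm hne, absurd e huw, e]
      obtain ⟨f1, f2⟩ := four_axiom D hgs hsz hu ht hu' hw htu htw hz
      refine ⟨(memS _).2 f1, fun x hx hxu hxw => ?_⟩
      simp only [memS] at hx hxu hxw
      rcases f2 _ hx hxu hxw with e | e | e | e
      exacts [Or.inl (cv_inj e), Or.inr (Or.inl (cv_inj e)), Or.inr (Or.inr (Or.inl (cv_inj e))),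
        Or.inr (Or.inr (Or.inr (cv_inj e)))]
    · intro t ht
      rw [memS] at ht
      rw [← card_local D hgs hsz hu ht]
      refine le_of_eq ?_
      refine (Finset.sum_bij (fun a _ => cv a) (fun a ha => (hnbr t a).1 ha) (fun a _ b _ e => cv_inj e)
        (fun g hg => ⟨Additive.ofMul ⟨g, hnSA g (Finset.mem_filter.1 hg).1⟩, (hnbr t _).2 hg, rfl⟩)
        fun u hu' => ?_).symm
      rw [← lift (fun w => IsConj z (cv u * w)) (DuadCode.nbr S t) (nb D (cv t)) (hnbr t)
        fun g hg => hnSA g (Finset.mem_filter.1 hg).1]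
      refine congrArg Finset.card (Finset.filter_congr fun w hw => ?_)
      have h1 := (DuadCode.mem_nbr.1 hu').1
      have h2 := (DuadCode.mem_nbr.1 hw).1
      rw [memS] at h1 h2
      rw [memS]
      refine ⟨fun ⟨hne, hn⟩ => ?_, fun h => ?_⟩
      · rcases (mul_cases D hgs hsz h1 h2).1 with e | e | e
        exacts [absurd (cv_inj e) hne, absurd e hn, e]
      · exact ⟨fun e => ((mul_cases D hgs hsz h1 h2).2 h).1 (congrArg cv e), ((mul_cases D hgs hsz h1 h2).2 h).2⟩
  let M := normalizer (A0 D : Set G)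
  let conjA : M → A0 D → A0 D := fun m a => ⟨(m : G) * a * (m : G)⁻¹, (mem_normalizer_iff.1 m.2 a).1 a.2⟩
  have hmul : ∀ m k a, conjA (m * k) a = conjA m (conjA k a) := fun m k a => Subtype.ext (by
    show (m : G) * k * a * ((m : G) * k)⁻¹ = (m : G) * ((k : G) * a * (k : G)⁻¹) * (m : G)⁻¹
    group)
  have hone : ∀ a, conjA 1 a = a := fun a => Subtype.ext (by simp [conjA])
  let ρ : M → Additive (A0 D) ≃+ Additive (A0 D) := fun m =>
    { toFun := fun a => Additive.ofMul (conjA m a.toMul)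
      invFun := fun a => Additive.ofMul (conjA m⁻¹ a.toMul)
      left_inv := fun a => by
        show Additive.ofMul (conjA m⁻¹ (conjA m a.toMul)) = a
        rw [← hmul, inv_mul_cancel, hone]; rfl
      right_inv := fun a => by
        show Additive.ofMul (conjA m (conjA m⁻¹ a.toMul)) = a
        rw [← hmul, mul_inv_cancel, hone]; rfl
      map_add' := fun a b => cv_inj (by
        show (m : G) * (cv a * cv b) * (m : G)⁻¹ = _
        exact (conj_mul (m : G) _ _).symm) }
  have hcvρ : ∀ m a, cv (ρ m a) = (m : G) * cv a * (m : G)⁻¹ := fun m a => rfl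
  obtain ⟨o, e, φ, hblk, hker, hd⟩ := hgeom.exists_hom_label ρ
    (fun g k a => congrArg Additive.ofMul (hmul g k a.toMul)) (fun a => congrArg Additive.ofMul (hone a.toMul))
    (fun g a ha => by rw [memS] at ha ⊢; rw [hcvρ]; exact (nS_map D g.2).2 ha)
  have hkerA : ∀ m, φ m = 1 ↔ (m : G) ∈ A0 D := fun m => by
    rw [hker]
    constructor
    · intro h
      refine centralizer_A0_le D (mem_centralizer_iff.2 fun a ha => ?_)
      have := congrArg cv (h (Additive.ofMul ⟨a, ha⟩))
      rw [hcvρ] at this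
      exact (mul_inv_eq_iff_eq_mul.1 this).symm
    · intro h a
      refine cv_inj ?_
      rw [hcvρ]
      exact mul_inv_eq_iff_eq_mul.2 (comm_A0 D hgs hsz h (Additive.toMul a : A0 D).2)
  let pt : Cfsg.GolayPt → DuadCode.Pt S := e.symm
  have hlab : ∀ p q, p ≠ q → cv (DuadCode.duad (pt p) (pt q)) ∈ nS D := fun p q hpq =>
    (memS _).1 (hgeom.duad_mem (fun e' => hpq (e.symm.injective e'))).1
  refine ⟨{
    lab := fun p q => cv (DuadCode.duad (pt p) (pt q))
    ev := fun s => cv (DuadCode.val o (s.image e.symm))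
    φ := φ
    surj := ?_
    ker := hkerA
    conj := fun m p q => (hcvρ m _).symm.trans (congrArg cv (hd m p q).symm)
    self := fun p => congrArg cv (DuadCode.duad_self _)
    symm := fun p q => congrArg cv (DuadCode.duad_comm _ _)
    trans := fun p q r => congrArg cv (hgeom.duad_add _ _ _)
    mem := hlab
    pair := fun p q hpq => ?_
    ev_mem := fun s => (Additive.toMul (DuadCode.val o (s.image e.symm)) : A0 D).2
    ev_add := fun s t => ?_
    octad := fun b hb => ?_
    four := fun s hs => ?_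
    exists_pair := fun t ht => ?_
    exists_four := fun a ha hz p => ?_
    stab := fun t ht => ?_ }⟩
  · have hd := lcm_dvd D hgs hsz hu
    have h := Subgroup.card_mul_index φ.ker
    rw [Subgroup.index_ker] at h
    have hk : Nat.card φ.ker = 2 ^ 11 := by
      rw [← (card_A0 D hinv).1]
      exact Nat.card_eq_of_bijective (fun m : φ.ker => (⟨m.1.1, (hkerA m.1).1 (MonoidHom.mem_ker.1 m.2)⟩ : A0 D))
        ⟨fun a b e => Subtype.ext (Subtype.ext (congrArg (fun u : A0 D => (u : G)) e)),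
          fun a => ⟨⟨⟨a.1, Subgroup.le_normalizer a.2⟩, MonoidHom.mem_ker.2 ((hkerA _).2 a.2)⟩, rfl⟩⟩
    rw [hk] at h
    rw [← h, show 2 ^ 21 * 135 * 1771 = 2 ^ 11 * (2 ^ 10 * 135 * 1771) by norm_num] at hd
    have hd' := Nat.dvd_of_mul_dvd_mul_left (by norm_num) hd
    have hle := Subgroup.card_le_card_group φ.range
    rw [Golay.card_M24] at hle
    have hpos : 0 < Nat.card φ.range := Nat.card_pos
    have := Nat.le_of_dvd hpos hd'
    rw [← MonoidHom.range_eq_top]
    refine Subgroup.eq_top_of_le_card _ ?_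
    rw [Golay.card_M24]
    exact (by norm_num : (244823040 : ℕ) = 2 ^ 10 * 135 * 1771).le.trans this
  · have hne : pt p ≠ pt q := fun e' => hpq (e.symm.injective e')
    show cv (DuadCode.val o (({p, q} : Finset Cfsg.GolayPt).image e.symm)) = _
    rw [Finset.image_insert, Finset.image_singleton, show ({e.symm q} : Finset (DuadCode.Pt S)) = insert (pt q) ∅
      from rfl, hgeom.val_insert_two o hne (Finset.notMem_empty _) (Finset.notMem_empty _)]
    simp [DuadCode.val, pt]
  · show cv (DuadCode.val o ((symmDiff s t).image e.symm)) = _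
    rw [Finset.image_symmDiff _ _ e.symm.injective, hgeom.val_symmDiff]
    rfl
  · obtain ⟨c, hc, rfl⟩ : b ∈ (fun b => b.image e) '' DuadCode.blocks o := hblk ▸ hb
    show cv (DuadCode.val o ((c.image e).image e.symm)) = 1
    rw [Finset.image_image, Equiv.symm_comp_self, Finset.image_id, hc.2]
    rfl
  · obtain ⟨h1, h2⟩ := hgeom.val_four o (s := s.image e.symm)
      (by rw [Finset.card_image_of_injective _ e.symm.injective, hs])
    by_contra hz
    refine h1 ((memS _).2 ((mem_nS D).2 ⟨(Additive.toMul (DuadCode.val o (s.image e.symm)) : A0 D).2,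
      fun e' => h2 (cv_inj e'), hz⟩))
  · set a : Additive (A0 D) := Additive.ofMul ⟨t, hnSA t ht⟩
    obtain ⟨u, hu'⟩ := hgeom.exists_nbr ((memS a).2 ht)
    obtain ⟨-, hne⟩ := hgeom.two_stars ((memS a).2 ht) hu'
    let K1 : DuadCode.Pt S := ⟨DuadCode.star S a u,
      DuadCode.mem_stars.2 ⟨a, (memS a).2 ht, u, hu', rfl⟩⟩
    let K2 : DuadCode.Pt S := ⟨DuadCode.star S a (a + u),
      DuadCode.mem_stars.2 ⟨a, (memS a).2 ht, _, hgeom.partner ((memS a).2 ht) hu', rfl⟩⟩
    have h12 : K1 ≠ K2 := fun e' => hne (congrArg Subtype.val e')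
    refine ⟨e K1, e K2, fun e' => h12 (e.injective e'), ?_⟩
    show cv (DuadCode.duad (e.symm (e K1)) (e.symm (e K2))) = t
    rw [e.symm_apply_apply, e.symm_apply_apply,
      ← hgeom.eq_duad h12 (x := a) (Finset.mem_insert_self _ _) (Finset.mem_insert_self _ _)]
    rfl
  · set v : Additive (A0 D) := Additive.ofMul ⟨a, ha⟩
    have hv0 : v ≠ 0 := fun e' => not_conj_one D (by
      have : a = 1 := congrArg cv e'
      rwa [this] at hz)
    have hvS : v ∉ S := fun h => ((mem_nS D).1 ((memS v).1 h)).2.2 hz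
    obtain ⟨s, hs, hval⟩ := (hgeom.pt_four o).1 v hvS hv0
    obtain ⟨t, ht, hpt, hval'⟩ := (hgeom.pt_four o).2 s hs (e.symm p)
    refine ⟨t.image e, by rw [Finset.card_image_of_injective _ e.injective, ht],
      Finset.mem_image.2 ⟨_, hpt, e.apply_symm_apply p⟩, ?_⟩
    show cv (DuadCode.val o ((t.image e).image e.symm)) = a
    rw [Finset.image_image, Equiv.symm_comp_self, Finset.image_id, hval', hval]
    rfl
  · obtain ⟨p, q, hpq, h⟩ := hgeom.pair_of_label e (fun m => (φ m : Equiv.Perm Cfsg.GolayPt)) ρ hd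
      (t := Additive.ofMul ⟨t, hnSA t ht⟩) ((memS _).2 ht)
    refine ⟨p, q, hpq, fun m => Iff.trans ?_ (h m)⟩
    exact ⟨fun e => cv_inj ((hcvρ m _).trans e), fun e => (hcvρ m _).symm.trans (congrArg cv e)⟩


include hgs hsz hu in
/-- The normaliser maps onto the Mathieu group. -/
theorem exists_map : ∃ φ : ↥(normalizer (A0 D : Set G)) →* Cfsg.M24, Function.Surjective φ ∧
    (∀ m, φ m = 1 ↔ (m : G) ∈ A0 D) ∧
    ∀ t ∈ nS D, ∃ p q : Cfsg.GolayPt, p ≠ q ∧ ∀ m : normalizer (A0 D : Set G),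
      ((m : G) * t * (m : G)⁻¹ = t ↔
        ((φ m : Equiv.Perm Cfsg.GolayPt) p = p ∧ (φ m : Equiv.Perm Cfsg.GolayPt) q = q) ∨
          ((φ m : Equiv.Perm Cfsg.GolayPt) p = q ∧ (φ m : Equiv.Perm Cfsg.GolayPt) q = p)) := by
  obtain ⟨L⟩ := exists_label D hgs hsz hu
  exact ⟨L.φ, L.surj, L.ker, L.stab⟩

end CfsgLib.FiLarge.Thom
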