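import Cfsg.Agent.FiLarge.Thom.Count

/-!
The two orbits of the normaliser, and the configuration of the 276 remaining involutions.
-/

set_option autoImplicit false
set_option quotPrecheck false
set_option maxRecDepth 100000
set_option linter.style.haveILetI false
set_option linter.unusedSectionVars false

namespace CfsgLib.FiLarge.Thom

open CfsgLib Subgroup
open CfsgLib.FiLarge.Dat (val)

attribute [local instance] Classical.propDecidable

variable {G : Type*} [Group G] [Finite G] {z : G} {Q : Subgroup (centralizer ({z} : Set G))} [Q.Normal]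
  (D : Dat z Q)

/-- The involutions of the subgroup outside the class of `z`. -/
noncomputable def nS : Finset G := (elems (A0 D)).filter fun g => g ≠ 1 ∧ ¬ IsConj z g

theorem mem_nS {g : G} : g ∈ nS D ↔ g ∈ A0 D ∧ g ≠ 1 ∧ ¬ IsConj z g := by
  simp [nS, mem_elems]

variable {gs : G} {s : Q} (hgs : gs * z * gs⁻¹ = val s) (hsz : val s ≠ z) (hu : Uniq z)

include hgs hsz in
theorem hinv' : ∃ y, y * D.T.x * y⁻¹ = D.T.x⁻¹ := hinv_of D hgs hsz

include hgs hsz in
theorem comm_A0 {a b : G} (ha : a ∈ A0 D) (hb : b ∈ A0 D) : a * b = b * a :=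
  (A0_elementary D (hinv_of D hgs hsz)).2 a ha b hb

include hgs hsz in
theorem sq_A0 {a : G} (ha : a ∈ A0 D) : a * a = 1 := (A0_elementary D (hinv_of D hgs hsz)).1 a ha

include hgs hsz in
theorem R0_small {r : G} (hr : r ∈ R0 D) (h1 : r ≠ 1) (hn : ¬ IsConj z r) : πG D r ∈ D.T.orb ⊤ v2 := by
  obtain ⟨a, rfl, ha⟩ := hr
  by_contra h
  refine hn ((R0_z_iff D hgs hsz ⟨a, rfl, ha⟩).2 ?_)
  by_cases h0 : D.π a = 0
  · exact Or.inl (((D.π_eq_zero a).1 h0).resolve_left h1)
  · exact Or.inr ⟨by rwa [πG_val], h⟩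

include hgs hsz in
theorem R0_mem_nS {r : G} (hr : r ∈ R0 D) (hs : πG D r ∈ D.T.orb ⊤ v2) : r ∈ nS D := by
  obtain ⟨a, rfl, ha⟩ := hr
  rw [πG_val] at hs
  refine (mem_nS D).2 ⟨R0_le_A0 D ⟨a, rfl, ha⟩, fun e => small_ne_zero D hs ?_, small_not_z D hs⟩
  exact (D.π_eq_zero a).2 (Or.inl e)

include hgs hsz hu in
/-- Two lifts outside the class of `z` lie over the plane. -/
theorem flag_mem {u : G} (hu' : u ∈ nS D) (huz : u * z ∈ nS D) : u ∈ R0 D := by
  obtain ⟨P⟩ := exists_rep D (hinv_of D hgs hsz)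
  obtain ⟨-, hone, hoff⟩ := main_count D hgs hsz P (hinv_of D hgs hsz) hu
  by_contra hR
  obtain ⟨hA, -, hn⟩ := (mem_nS D).1 hu'
  obtain ⟨-, -, hnz⟩ := (mem_nS D).1 huz
  obtain ⟨g, hg, r, hr, rfl⟩ := Rep.cover' D P (hinv_of D hgs hsz) hA hR
  have hgz : g * (P.e * r) * g⁻¹ * z = g * (P.e * (r * z)) * g⁻¹ :=
    (congrArg (g * (P.e * r) * g⁻¹ * ·) (N0_fix_z D hg).symm).trans (by group)
  rw [hgz, conj_z_conj] at hnz
  rw [conj_z_conj] at hn
  by_cases hL : InL (πG D r)
  · rcases Rep.in_L' D P hr hL with ⟨h1, h2⟩ | ⟨h1, h2⟩ <;> rcases hone with ⟨c1, c2⟩ | ⟨c1, c2⟩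
    · exact hn (c1.trans h1)
    · exact hnz (c2.trans h2)
    · exact hnz (c1.trans h2)
    · exact hn (c2.trans h1)
  · exact hn (hoff r hr hL)

include hgs hsz hu in
/-- All of the remaining involutions are conjugate. -/
theorem nS_conj {a b : G} (ha : a ∈ nS D) (hb : b ∈ nS D) : IsConj a b := by
  have hinv := hinv_of D hgs hsz
  obtain ⟨P⟩ := exists_rep D hinv
  obtain ⟨hN, hone, hoff⟩ := main_count D hgs hsz P hinv hu
  obtain ⟨es, hes⟩ : ∃ es, ∀ c ∈ nS D, c ∉ R0 D → IsConj es c := by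
    refine ⟨if IsConj z P.e then P.e * z else P.e, fun c hc hR => ?_⟩
    obtain ⟨hA, -, hn⟩ := (mem_nS D).1 hc
    obtain ⟨g, hg, r, hr, rfl⟩ := Rep.cover' D P hinv hA hR
    rw [conj_z_conj] at hn
    refine IsConj.trans ?_ (isConj_iff.2 ⟨g, rfl⟩)
    by_cases hL : InL (πG D r)
    · rcases Rep.in_L' D P hr hL with ⟨h1, -⟩ | ⟨h1, -⟩
      · rw [if_neg fun h => hn (h.trans h1)]; exact h1
      · rcases hone with ⟨c1, -⟩ | ⟨-, c2⟩
        · rw [if_pos c1]; exact h1
        · exact absurd (c2.trans h1) hn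
    · exact absurd (hoff r hr hL) hn
  have hsm : ∀ c ∈ nS D, ∀ d ∈ nS D, c ∈ R0 D → d ∈ R0 D → IsConj c d := by
    intro c hc d hd hcR hdR
    obtain ⟨-, c1, c2⟩ := (mem_nS D).1 hc
    obtain ⟨-, d1, d2⟩ := (mem_nS D).1 hd
    have e1 := R0_small D hgs hsz hcR c1 c2
    have e2 := R0_small D hgs hsz hdR d1 d2
    obtain ⟨a', rfl, -⟩ := id hcR
    obtain ⟨b', rfl, -⟩ := id hdR
    rw [πG_val] at e1 e2
    exact small_conj D e1 e2
  -- the link
  obtain ⟨a1, e1, ha1⟩ := exists_lift_R0 D (inW_w3 1 0 0)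
  have hv : πG D (val a1) ∈ D.T.orb ⊤ v2 := by
    rw [πG_val, e1, ← v2_w3]
    exact D.T.mem_orb.2 ⟨1, mem_top _, D.T.r_one _⟩
  have hr1 := R0_mem_nS D hgs hsz ha1 hv
  have hr2 : val a1 * z ∈ nS D :=
    R0_mem_nS D hgs hsz (mul_mem ha1 (z_mem_R0 D)) (by rwa [πG_mul_z D ha1])
  obtain ⟨c0, hc0, hc0R, hlink⟩ : ∃ c ∈ nS D, c ∉ R0 D ∧ IsConj (val a1) c := by
    by_contra hno
    push Not at hno
    have himg : ∀ m ∈ normalizer (A0 D : Set G), ∀ r ∈ R0 D, r ∈ nS D → m * r * m⁻¹ ∈ R0 D := by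
      intro m hm r hr hrS
      by_contra hR
      obtain ⟨hA, h1, h2⟩ := (mem_nS D).1 hrS
      have hmem : m * r * m⁻¹ ∈ nS D := (mem_nS D).2 ⟨(mem_normalizer_iff.1 hm r).1 hA,
        fun e => h1 (conj_eq_one_iff.1 e), fun h => h2 ((conj_z_conj m r).1 h)⟩
      exact hno _ hmem hR ((hsm _ hr1 _ hrS ha1 hr).trans (isConj_iff.2 ⟨m, rfl⟩))
    have hsub : ((elems (A0 D)).filter fun c => IsConj z c) ⊆ elems (R0 D) := by
      intro c hc
      rw [Finset.mem_filter, mem_elems] at hc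
      obtain ⟨g, rfl⟩ := isConj_iff.1 hc.2
      obtain ⟨m, hm, e⟩ := fusion D hinv hu (R0_le_A0 D (z_mem_R0 D)) hc.1
      rw [mem_elems, ← e]
      have h := mul_mem (himg m hm _ ha1 hr1) (himg m hm _ (mul_mem ha1 (z_mem_R0 D)) hr2)
      rwa [show m * val a1 * m⁻¹ * (m * (val a1 * z) * m⁻¹) = m * z * m⁻¹ by
        rw [show m * val a1 * m⁻¹ * (m * (val a1 * z) * m⁻¹) = m * ((val a1 * val a1) * z) * m⁻¹ by group,
          R0_sq D ha1, one_mul]] at h
    have := Finset.card_le_card hsub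
    rw [hN, card_elems, card_R0 D] at this
    omega
  have htrans : ∀ c ∈ nS D, IsConj (val a1) c := fun c hc => by
    by_cases hR : c ∈ R0 D
    · exact hsm _ hr1 _ hc ha1 hR
    · exact hlink.trans ((hes _ hc0 hc0R).symm.trans (hes _ hc hR))
  exact (htrans a ha).symm.trans (htrans b hb)

include hgs hsz hu in
theorem nS_move {a b : G} (ha : a ∈ nS D) (hb : b ∈ nS D) :
    ∃ m ∈ normalizer (A0 D : Set G), m * a * m⁻¹ = b := by
  obtain ⟨g, hg⟩ := isConj_iff.1 (nS_conj D hgs hsz hu ha hb)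
  obtain ⟨m, hm, e⟩ := fusion D (hinv_of D hgs hsz) hu ((mem_nS D).1 ha).1 (g := g)
    (hg ▸ ((mem_nS D).1 hb).1)
  exact ⟨m, hm, e.trans hg⟩

include hgs hsz hu in
theorem z_move {c : G} (hc : c ∈ A0 D) (hz : IsConj z c) :
    ∃ m ∈ normalizer (A0 D : Set G), m * z * m⁻¹ = c := by
  obtain ⟨g, rfl⟩ := isConj_iff.1 hz
  exact fusion D (hinv_of D hgs hsz) hu (R0_le_A0 D (z_mem_R0 D)) hc

theorem nS_map {m g : G} (hm : m ∈ normalizer (A0 D : Set G)) : m * g * m⁻¹ ∈ nS D ↔ g ∈ nS D := by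
  rw [mem_nS, mem_nS, conj_z_conj, ← mem_normalizer_iff.1 hm g, Ne, conj_eq_one_iff]

theorem conj_mul (m a b : G) : m * a * m⁻¹ * (m * b * m⁻¹) = m * (a * b) * m⁻¹ := by group

include hgs hsz hu in
theorem card_nS : (nS D).card = 276 := by
  obtain ⟨P⟩ := exists_rep D (hinv_of D hgs hsz)
  obtain ⟨hN, -, -⟩ := main_count D hgs hsz P (hinv_of D hgs hsz) hu
  have h : (elems (A0 D)) = insert 1 (nS D ∪ (elems (A0 D)).filter fun c => IsConj z c) := by
    ext g
    simp only [Finset.mem_insert, Finset.mem_union, Finset.mem_filter, mem_elems, mem_nS]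
    constructor
    · intro hg; by_cases h1 : g = 1
      · exact Or.inl h1
      · by_cases h2 : IsConj z g
        exacts [Or.inr (Or.inr ⟨hg, h2⟩), Or.inr (Or.inl ⟨hg, h1, h2⟩)]
    · rintro (rfl | ⟨h, -⟩ | ⟨h, -⟩)
      exacts [one_mem _, h, h]
  have hd : Disjoint (nS D) ((elems (A0 D)).filter fun c => IsConj z c) :=
    Finset.disjoint_left.2 fun g h h' => ((mem_nS D).1 h).2.2 (Finset.mem_filter.1 h').2
  have := congrArg Finset.card h
  rw [card_elems, (card_A0 D (hinv_of D hgs hsz)).1, Finset.card_insert_of_notMem, Finset.card_union_of_disjoint hd,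
    hN] at this
  · omega
  · simp only [Finset.mem_union, mem_nS, Finset.mem_filter]
    rintro (⟨-, h, -⟩ | ⟨-, h⟩)
    exacts [h rfl, not_conj_one D h]

include hgs hsz hu in
/-- The pairs with product `z`. -/
theorem z_pairs : ((nS D).filter fun u => u * z ∈ nS D).card = 36 := by
  obtain ⟨k, hk, hS⟩ := exists_class D.T
  have h : ((nS D).filter fun u => u * z ∈ nS D) = (elems (R0 D)).filter fun r => Sml k (πG D r) := by
    ext u
    simp only [Finset.mem_filter, mem_elems]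
    constructor
    · rintro ⟨h1, h2⟩
      have hR := flag_mem D hgs hsz hu h1 h2
      exact ⟨hR, (hS _ (πG_inW D hR)).1 (R0_small D hgs hsz hR ((mem_nS D).1 h1).2.1 ((mem_nS D).1 h1).2.2)⟩
    · rintro ⟨hR, hs⟩
      have hv := (hS _ (πG_inW D hR)).2 hs
      exact ⟨R0_mem_nS D hgs hsz hR hv,
        R0_mem_nS D hgs hsz (mul_mem hR (z_mem_R0 D)) (by rwa [πG_mul_z D hR])⟩
  have h2 := card_R0_filter D (Sml k)
  have h18 := sml_count k hk
  rw [h]
  convert h2.trans (congrArg (2 * ·) (show _ = 18 by convert h18 using 3)) using 3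

include hgs hsz hu in
/-- Every conjugate of `z` is the product of 36 pairs. -/
theorem pairs {c : G} (hc : c ∈ A0 D) (hz : IsConj z c) : ((nS D).filter fun u => u * c ∈ nS D).card = 36 := by
  obtain ⟨m, hm, rfl⟩ := z_move D hgs hsz hu hc hz
  rw [← z_pairs D hgs hsz hu]
  refine Finset.card_bij' (fun u _ => m⁻¹ * u * m) (fun u _ => m * u * m⁻¹) ?_ ?_ ?_ ?_
  · intro u hu'
    rw [Finset.mem_filter] at hu' ⊢
    refine ⟨?_, ?_⟩
    · rw [← nS_map D hm, show m * (m⁻¹ * u * m) * m⁻¹ = u by group]; exact hu'.1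
    · rw [← nS_map D hm, show m * (m⁻¹ * u * m * z) * m⁻¹ = u * (m * z * m⁻¹) by group]; exact hu'.2
  · intro u hu'
    rw [Finset.mem_filter] at hu' ⊢
    exact ⟨(nS_map D hm).2 hu'.1, by rw [conj_mul]; exact (nS_map D hm).2 hu'.2⟩
  · intro u _; group
  · intro u _; group

include hgs hsz hu in
/-- Common neighbours of a pair with product `z`. -/
theorem z_common {u : G} (hu1 : u ∈ nS D) (hu2 : u * z ∈ nS D) :
    ((nS D).filter fun x => x * u ∈ nS D ∧ x * (u * z) ∈ nS D).card = 4 ∧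
      ∀ t ∈ nS D, t * u ∈ nS D → t * (u * z) ∈ nS D → t * z ∈ nS D := by
  obtain ⟨k, hk, hS⟩ := exists_class D.T
  have huR := flag_mem D hgs hsz hu hu1 hu2
  have hus : Sml k (πG D u) :=
    (hS _ (πG_inW D huR)).1 (R0_small D hgs hsz huR ((mem_nS D).1 hu1).2.1 ((mem_nS D).1 hu1).2.2)
  obtain ⟨a, rfl, haW⟩ := id huR
  rw [πG_val] at hus
  set v := D.π a
  have key : ∀ x, (x ∈ nS D ∧ x * val a ∈ nS D ∧ x * (val a * z) ∈ nS D) ↔
      (x ∈ R0 D ∧ (πG D x = om • v ∨ πG D x = (om * om) • v)) := by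
    intro x
    constructor
    · rintro ⟨h1, h2, h3⟩
      rw [← mul_assoc] at h3
      have hR' := flag_mem D hgs hsz hu h2 h3
      have hR : x ∈ R0 D := by simpa using mul_mem hR' (inv_mem huR)
      refine ⟨hR, ?_⟩
      obtain ⟨b, rfl, hb⟩ := id hR
      rw [πG_val]
      have hx : Sml k (D.π b) := (hS _ hb).1 (by
        have := R0_small D hgs hsz hR ((mem_nS D).1 h1).2.1 ((mem_nS D).1 h1).2.2
        rwa [πG_val] at this)
      have hxa : Sml k (D.π b + v) := (hS _ (hb.add haW)).1 (by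
        have := R0_small D hgs hsz hR' ((mem_nS D).1 h2).2.1 ((mem_nS D).1 h2).2.2
        rwa [show val b * val a = val (b * a) from rfl, πG_val, D.π_mul] at this)
      rw [← w3_eq hb, ← w3_eq haW] at hxa ⊢
      rw [← w3_eq hb] at hx
      rw [← w3_eq haW] at hus
      have := (sml_partner k hk _ _ _ hus _ _ _ hx).1 (by
        convert hxa using 1
        funext i; fin_cases i <;> simp [w3, add_comm])
      rcases this with ⟨e1, e2, e3⟩ | ⟨e1, e2, e3⟩
      · left; funext i; fin_cases i <;> simp [w3, e1, e2, e3]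
      · right; funext i; fin_cases i <;> simp [w3, e1, e2, e3]
    · rintro ⟨hR, hx⟩
      obtain ⟨b, rfl, hb⟩ := id hR
      rw [πG_val] at hx
      have hx' : Sml k (D.π b) ∧ Sml k (D.π b + v) := by
        rw [← w3_eq haW] at hus hx ⊢
        have hscal : ∀ c : F4, c ≠ 0 → Sml k (c • w3 (v 0) (v 2) (v 4)) := by
          intro c hc
          rcases (by decide +kernel : ∀ c : F4, c ≠ 0 → c = 1 ∨ c = om ∨ c = om * om) c hc with rfl | h
          · rwa [one_smul]
          · refine (hS _ ((inW_w3 _ _ _).smul c)).1 ?_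
            have hv2 := (hS _ (inW_w3 _ _ _)).2 hus
            rcases h with rfl | rfl
            · rw [← D.T.x_act]; exact orb_closed D.T hv2
            · rw [← smul_smul, ← D.T.x_act, ← D.T.x_act]; exact orb_closed D.T (orb_closed D.T hv2)
        have e : ∀ c : F4, c • w3 (v 0) (v 2) (v 4) + w3 (v 0) (v 2) (v 4) = (c + 1) • w3 (v 0) (v 2) (v 4) :=
          fun c => by rw [add_smul, one_smul]
        rcases hx with h | h <;> rw [h, e] <;>
          exact ⟨hscal _ (by decide +kernel), hscal _ (by decide +kernel)⟩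
      refine ⟨R0_mem_nS D hgs hsz hR (by rw [πG_val]; exact (hS _ hb).2 hx'.1), ?_, ?_⟩
      · refine R0_mem_nS D hgs hsz (mul_mem hR huR) ?_
        rw [show val b * val a = val (b * a) from rfl, πG_val, D.π_mul]
        exact (hS _ (hb.add haW)).2 hx'.2
      · rw [← mul_assoc]
        refine R0_mem_nS D hgs hsz (mul_mem (mul_mem hR huR) (z_mem_R0 D)) ?_
        rw [πG_mul_z D (mul_mem hR huR), show val b * val a = val (b * a) from rfl, πG_val, D.π_mul]
        exact (hS _ (hb.add haW)).2 hx'.2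
  refine ⟨?_, fun t h1 h2 h3 => ?_⟩
  · have h : ((nS D).filter fun x => x * val a ∈ nS D ∧ x * (val a * z) ∈ nS D) =
        (elems (R0 D)).filter fun r => (fun w => w = om • v ∨ w = (om * om) • v) (πG D r) := by
      ext x
      simp only [Finset.mem_filter, mem_elems]
      exact key x
    have h2 := card_R0_filter D fun w => w = om • v ∨ w = (om * om) • v
    have h3 : (Finset.univ.filter fun t : F4 × F4 × F4 =>
        w3 t.1 t.2.1 t.2.2 = om • v ∨ w3 t.1 t.2.1 t.2.2 = (om * om) • v).card = 2 := by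
      have hv0 : v ≠ 0 := fun e => small_ne_zero D ((hS _ haW).2 hus) e
      have e : (Finset.univ.filter fun t : F4 × F4 × F4 =>
          w3 t.1 t.2.1 t.2.2 = om • v ∨ w3 t.1 t.2.1 t.2.2 = (om * om) • v) =
          {((om • v) 0, (om • v) 2, (om • v) 4), (((om * om) • v) 0, ((om * om) • v) 2, ((om * om) • v) 4)} := by
        ext t
        simp only [Finset.mem_filter, Finset.mem_univ, true_and, Finset.mem_insert, Finset.mem_singleton]
        constructor
        · rintro (e | e) <;> [left; right] <;> rw [← e] <;> rfl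
        · rintro (rfl | rfl) <;> [left; right] <;> exact w3_eq (haW.smul _)
      rw [e, Finset.card_pair]
      intro heq
      have heq' : om • v = (om * om) • v := by
        rw [← w3_eq (haW.smul om), ← w3_eq (haW.smul (om * om))]
        simp only [Prod.mk.injEq] at heq
        rw [heq.1, heq.2.1, heq.2.2]
      refine hv0 (funext fun i => ?_)
      exact (by decide +kernel : ∀ x : F4, om * x = om * om * x → x = 0) _ (congrFun heq' i)
    rw [h]
    convert h2.trans (congrArg (2 * ·) (show _ = 2 by convert h3 using 3)) using 3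
  · obtain ⟨hR, hx⟩ := (key t).1 ⟨h1, h2, h3⟩
    refine ((key (t * z)).2 ⟨mul_mem hR (z_mem_R0 D), ?_⟩).1
    rw [πG_mul_z D hR]
    exact hx

include hgs hsz hu in
/-- Common neighbours of two elements with product conjugate to `z`. -/
theorem common {u w : G} (hu1 : u ∈ nS D) (hw1 : w ∈ nS D) (hz : IsConj z (u * w)) :
    ((nS D).filter fun x => x * u ∈ nS D ∧ x * w ∈ nS D).card = 4 ∧
      ∀ t ∈ nS D, t * u ∈ nS D → t * w ∈ nS D → t * u * w ∈ nS D := by
  have huA := ((mem_nS D).1 hu1).1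
  have hwA := ((mem_nS D).1 hw1).1
  obtain ⟨m, hm, e⟩ := z_move D hgs hsz hu (mul_mem huA hwA) hz
  set u' := m⁻¹ * u * m with hu'
  have eu : m * u' * m⁻¹ = u := by rw [hu']; group
  have ew : m * (u' * z) * m⁻¹ = w := by
    rw [show m * (u' * z) * m⁻¹ = (m * u' * m⁻¹) * (m * z * m⁻¹) by group, eu, e, ← mul_assoc,
      sq_A0 D hgs hsz huA, one_mul]
  have h1 : u' ∈ nS D := by rwa [← nS_map D hm, eu]
  have h2 : u' * z ∈ nS D := by rwa [← nS_map D hm, ew]
  obtain ⟨hc, ht⟩ := z_common D hgs hsz hu h1 h2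
  constructor
  · rw [← hc]
    refine Finset.card_bij' (fun x _ => m⁻¹ * x * m) (fun x _ => m * x * m⁻¹) ?_ ?_ ?_ ?_
    · intro x hx
      rw [Finset.mem_filter] at hx ⊢
      refine ⟨?_, ?_, ?_⟩ <;> rw [← nS_map D hm]
      · rw [show m * (m⁻¹ * x * m) * m⁻¹ = x by group]; exact hx.1
      · rw [← conj_mul m, eu, show m * (m⁻¹ * x * m) * m⁻¹ = x by group]; exact hx.2.1
      · rw [← conj_mul m, ew, show m * (m⁻¹ * x * m) * m⁻¹ = x by group]; exact hx.2.2
    · intro x hx
      rw [Finset.mem_filter] at hx ⊢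
      refine ⟨(nS_map D hm).2 hx.1, ?_, ?_⟩
      · rw [← eu, conj_mul]; exact (nS_map D hm).2 hx.2.1
      · rw [← ew, conj_mul]; exact (nS_map D hm).2 hx.2.2
    · intro x _; group
    · intro x _; group
  · intro t t1 t2 t3
    set t' := m⁻¹ * t * m with ht'
    have et : m * t' * m⁻¹ = t := by rw [ht']; group
    have h := ht t' (by rwa [← nS_map D hm, et]) (by rwa [← nS_map D hm, ← conj_mul, et, eu])
      (by rwa [← nS_map D hm, ← conj_mul, et, ew])
    rw [← nS_map D hm, ← conj_mul, et, e] at h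
    rwa [mul_assoc]

end CfsgLib.FiLarge.Thom
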