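import Cfsg.Agent.FiLarge.Thom.Stabs

/-!
The elementary abelian subgroup of order `2^11` over the standard plane.
-/

set_option autoImplicit false
set_option quotPrecheck false
set_option maxRecDepth 100000
set_option linter.style.haveILetI false
set_option linter.unusedSectionVars false

namespace CfsgLib.FiLarge.Thom

open CfsgLib Subgroup
open CfsgLib.FiLarge.Dat (val)

variable {G : Type*} [Group G] [Finite G] {z : G} {Q : Subgroup (centralizer ({z} : Set G))} [Q.Normal]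
  (D : Dat z Q)

local notation "HH" => centralizer ({z} : Set G)
local notation "mk" => QuotientGroup.mk' Q

omit [Finite G] in
theorem π_one : D.π 1 = 0 := (D.π_eq_zero 1).2 (Or.inl rfl)

omit [Finite G] in
theorem π_inv (a : Q) : D.π a⁻¹ = D.π a := by
  have h : D.π a⁻¹ + D.π a = 0 := by rw [← D.π_mul, inv_mul_cancel, π_one D]
  funext i
  exact eq_of_add_F4 _ _ (congrFun h i)

/-- The elementary abelian subgroup of `Q` over the plane. -/
def R0 : Subgroup G where
  carrier := {g | ∃ a : Q, val a = g ∧ InW (D.π a)}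
  one_mem' := ⟨1, rfl, by rw [π_one D]; exact inW_zero⟩
  mul_mem' := by
    rintro _ _ ⟨a, rfl, ha⟩ ⟨b, rfl, hb⟩
    exact ⟨a * b, rfl, by rw [D.π_mul]; exact ha.add hb⟩
  inv_mem' := by
    rintro _ ⟨a, rfl, ha⟩
    exact ⟨a⁻¹, rfl, by rwa [π_inv D]⟩

/-- The subgroup over the plane and its pointwise stabiliser. -/
def A0 : Subgroup G := centralizer (R0 D : Set G)

theorem mem_R0 {g : G} : g ∈ R0 D ↔ ∃ a : Q, val a = g ∧ InW (D.π a) := Iff.rfl

theorem val_mem_R0 {a : Q} (ha : InW (D.π a)) : val a ∈ R0 D := ⟨a, rfl, ha⟩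

theorem π_mem_R0 {a : Q} (h : val a ∈ R0 D) : InW (D.π a) := by
  obtain ⟨b, hb, hbW⟩ := h
  rwa [← (Subtype.ext (Subtype.ext hb) : b = a)]

theorem R0_comm {r s : G} (hr : r ∈ R0 D) (hs : s ∈ R0 D) : r * s = s * r := by
  obtain ⟨a, rfl, ha⟩ := hr
  obtain ⟨b, rfl, hb⟩ := hs
  have h := (D.comm_iff a b).2 (by rw [qn_inW (ha.add hb), qn_inW ha, qn_inW hb]; rfl)
  exact congrArg val h

theorem R0_sq {r : G} (hr : r ∈ R0 D) : r * r = 1 := by
  obtain ⟨a, rfl, ha⟩ := hr
  exact congrArg val ((D.sq_iff a).2 (qn_inW ha))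

theorem exists_zQ : ∃ a : Q, val a = z ∧ D.π a = 0 := by
  obtain ⟨q, hq, e⟩ := D.zQ
  exact ⟨⟨q, hq⟩, e, (D.π_eq_zero _).2 (Or.inr e)⟩

theorem z_mem_R0 : z ∈ R0 D := by
  obtain ⟨a, e, h⟩ := exists_zQ D
  exact ⟨a, e, by rw [h]; exact inW_zero⟩

theorem R0_le_A0 : R0 D ≤ A0 D := fun _ hr => mem_centralizer_iff.2 fun _ hs => R0_comm D hs hr

theorem A0_le_cz : A0 D ≤ HH := fun _ hg =>
  mem_centralizer_singleton_iff.2 (mem_centralizer_iff.1 hg z (z_mem_R0 D)).symm

theorem centralizer_A0_le : centralizer (A0 D : Set G) ≤ A0 D :=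
  centralizer_le (R0_le_A0 D)

theorem exists_lift_R0 {v : V6} (hv : InW v) : ∃ a : Q, D.π a = v ∧ val a ∈ R0 D := by
  obtain ⟨a, rfl⟩ := D.π_surj v
  exact ⟨a, rfl, val_mem_R0 D hv⟩

theorem eq_mul_z {r s : G} (a b : Q) (ha : val a = r) (hb : val b = s) (h : D.π a = D.π b) :
    s = r ∨ s = r * z := by
  subst ha hb
  exact D.eq_of_π h

include D in
theorem z_sq : z * z = 1 := R0_sq D (z_mem_R0 D)

include D in
theorem z_ne : z ≠ 1 := D.pre.gen.ne_one

theorem card_R0 : Nat.card (R0 D) = 128 := by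
  let f : Q →* Multiplicative V6 :=
    { toFun := fun a => Multiplicative.ofAdd (D.π a)
      map_one' := congrArg Multiplicative.ofAdd (π_one D)
      map_mul' := fun a b => congrArg Multiplicative.ofAdd (D.π_mul a b) }
  let W' : Subgroup (Multiplicative V6) :=
    { carrier := {u | InW u.toAdd}
      one_mem' := inW_zero
      mul_mem' := fun ha hb => InW.add ha hb
      inv_mem' := fun {u} hu => by
        show InW (-u.toAdd)
        rwa [show -u.toAdd = u.toAdd from funext fun i => neg_eq_of_add_eq_zero_left (add_self_F4 _)] }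
  have hf : Function.Surjective f := fun v => by
    obtain ⟨a, ha⟩ := D.π_surj v.toAdd
    exact ⟨a, congrArg Multiplicative.ofAdd ha⟩
  have hW : Nat.card W' = 64 := by
    let e : F4 × F4 × F4 → W' := fun t => ⟨Multiplicative.ofAdd (w3 t.1 t.2.1 t.2.2), inW_w3 _ _ _⟩
    have hb : Function.Bijective e := by
      constructor
      · intro s t h
        have h' : w3 s.1 s.2.1 s.2.2 = w3 t.1 t.2.1 t.2.2 := congrArg (fun u : W' => u.1.toAdd) h
        exact Prod.ext (congrFun h' 0) (Prod.ext (congrFun h' 2) (congrFun h' 4))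
      · rintro ⟨u, hu⟩
        exact ⟨(u.toAdd 0, u.toAdd 2, u.toAdd 4), Subtype.ext (congrArg Multiplicative.ofAdd (w3_eq hu))⟩
    rw [← Nat.card_eq_of_bijective e hb, Nat.card_eq_fintype_card]
    rfl
  have hV : Nat.card (Multiplicative V6) = 4096 := by rw [Nat.card_eq_fintype_card]; rfl
  have h1 := Subgroup.index_mul_card W'
  have h2 := Subgroup.index_mul_card (W'.comap f)
  rw [Subgroup.index_comap_of_surjective _ hf, D.cardQ] at h2
  rw [hW, hV] at h1
  have h3 : Nat.card (W'.comap f) = 128 := by nlinarith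
  rw [← h3]
  refine (Nat.card_eq_of_bijective (fun a : W'.comap f => (⟨val a.1, val_mem_R0 D a.2⟩ : R0 D)) ⟨?_, ?_⟩).symm
  · intro a b h
    exact Subtype.ext (Subtype.ext (Subtype.ext (congrArg (fun u : R0 D => (u : G)) h)))
  · rintro ⟨_, a, rfl, ha⟩
    exact ⟨⟨a, ha⟩, rfl⟩

/-! ### The image of the centraliser -/

theorem mk_fix {c : HH} (hc : (c : G) ∈ A0 D) : mk c ∈ fixW D.T := by
  intro w hw
  obtain ⟨a, rfl, ha⟩ := exists_lift_R0 D hw
  refine D.π_conj_eq ?_
  rw [← mem_centralizer_iff.1 hc _ ha, mul_inv_cancel_right]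

theorem A0_inf_Q {c : HH} (hc : (c : G) ∈ A0 D) (hQ : c ∈ Q) : (c : G) ∈ R0 D := by
  refine val_mem_R0 D (a := ⟨c, hQ⟩) (inW_of_perp fun w hw => ?_)
  obtain ⟨b, rfl, hb⟩ := exists_lift_R0 D hw
  refine (D.comm_iff _ b).1 (Subtype.ext (Subtype.ext ?_))
  exact (mem_centralizer_iff.1 hc _ hb).symm

theorem conj_fix {c : HH} (hc : mk c ∈ fixW D.T) {a : Q} (ha : InW (D.π a)) :
    (c : G) * val a * (c : G)⁻¹ = val a ∨ (c : G) * val a * (c : G)⁻¹ = val a * z :=
  eq_mul_z D a (MulAut.conjNormal c a) rfl rfl (by rw [D.act]; exact (hc _ ha).symm)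

/-- The index of a centraliser inside the preimage of the pointwise stabiliser. -/
theorem index_le_two {a : Q} (ha : InW (D.π a)) :
    (((centralizer ({val a} : Set G)).subgroupOf HH).subgroupOf ((fixW D.T).comap mk)).index ≤ 2 := by
  classical
  set K := (fixW D.T).comap mk
  set S := ((centralizer ({val a} : Set G)).subgroupOf HH).subgroupOf K
  let g : K → G := fun k => ((k : HH) : G) * val a * ((k : HH) : G)⁻¹
  have hg : ∀ k l : K, k⁻¹ * l ∈ S ↔ g k = g l := by
    intro k l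
    simp only [S, Subgroup.mem_subgroupOf, mem_centralizer_singleton_iff, g, Subgroup.coe_mul, Subgroup.coe_inv]
    constructor
    · intro h
      calc ((k : HH) : G) * val a * ((k : HH) : G)⁻¹
          = ((k : HH) : G) * (val a * (((k : HH) : G)⁻¹ * ((l : HH) : G))) * ((l : HH) : G)⁻¹ := by group
        _ = _ := by rw [← h]; group
    · intro h
      calc ((k : HH) : G)⁻¹ * ((l : HH) : G) * val a
          = ((k : HH) : G)⁻¹ * (((l : HH) : G) * val a * ((l : HH) : G)⁻¹) * ((l : HH) : G) := by group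
        _ = _ := by rw [← h]; group
  let j : K ⧸ S → ({val a, val a * z} : Finset G) := fun q => ⟨g q.out, by
    rcases conj_fix D q.out.2 ha with e | e <;> simp [g, e]⟩
  have hj : Function.Injective j := by
    intro p q h
    rw [← Quotient.out_eq p, ← Quotient.out_eq q]
    exact QuotientGroup.eq.2 ((hg _ _).2 (congrArg Subtype.val h))
  rw [Subgroup.index_eq_card]
  refine (Nat.card_le_card_of_injective j hj).trans ?_
  rw [Nat.card_eq_fintype_card, Fintype.card_coe]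
  exact Finset.card_le_two

theorem card_A0_ge (hinv : ∃ y, y * D.T.x * y⁻¹ = D.T.x⁻¹) : 2 ^ 11 ≤ Nat.card (A0 D) := by
  classical
  set K := (fixW D.T).comap mk
  have hK : Nat.card K = 16 * 2 ^ 13 := by
    have h := Subgroup.index_mul_card K
    rw [Subgroup.index_comap_of_surjective _ (QuotientGroup.mk'_surjective Q)] at h
    have h1 := Subgroup.index_mul_card (fixW D.T)
    rw [card_fixW D.T hinv, D.T.card] at h1
    have h2 := Subgroup.card_eq_card_quotient_mul_card_subgroup Q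
    rw [D.T.card, D.cardQ] at h2
    rw [h2] at h
    have hpos : 0 < (fixW D.T).index := Nat.pos_of_ne_zero Subgroup.index_ne_zero_of_finite
    nlinarith
  obtain ⟨a1, e1, h1⟩ := exists_lift_R0 D (inW_w3 1 0 0)
  obtain ⟨a2, e2, h2⟩ := exists_lift_R0 D (inW_w3 om 0 0)
  obtain ⟨a3, e3, h3⟩ := exists_lift_R0 D (inW_w3 0 1 0)
  obtain ⟨a4, e4, h4⟩ := exists_lift_R0 D (inW_w3 0 om 0)
  obtain ⟨a5, e5, h5⟩ := exists_lift_R0 D (inW_w3 0 0 1)
  obtain ⟨a6, e6, h6⟩ := exists_lift_R0 D (inW_w3 0 0 om)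
  let S : Q → Subgroup K := fun a => ((centralizer ({val a} : Set G)).subgroupOf HH).subgroupOf K
  set I := S a1 ⊓ (S a2 ⊓ (S a3 ⊓ (S a4 ⊓ (S a5 ⊓ S a6))))
  have hS : ∀ a : Q, val a ∈ R0 D → (S a).index ≤ 2 := fun a ha => index_le_two D (π_mem_R0 D ha)
  have step : ∀ (a : Q) (J : Subgroup K) (n : ℕ), val a ∈ R0 D → J.index ≤ n → (S a ⊓ J).index ≤ 2 * n :=
    fun a J n ha hJ => Subgroup.index_inf_le.trans (Nat.mul_le_mul (hS a ha) hJ)
  have hI : I.index ≤ 2 * (2 * (2 * (2 * (2 * 2)))) :=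
    step _ _ _ h1 (step _ _ _ h2 (step _ _ _ h3 (step _ _ _ h4 (step _ _ _ h5 (hS _ h6)))))
  have hIA : ∀ k ∈ I, ((k : HH) : G) ∈ A0 D := by
    intro k hk
    simp only [I, Subgroup.mem_inf, S, Subgroup.mem_subgroupOf, mem_centralizer_singleton_iff] at hk
    let P : V6 → Prop := fun v => ∀ a : Q, D.π a = v → Commute ((k : HH) : G) (val a)
    have hz : Commute ((k : HH) : G) z := mem_centralizer_singleton_iff.1 (k : HH).2
    have hP : ∀ a : Q, ((k : HH) : G) * val a = val a * ((k : HH) : G) → P (D.π a) := by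
      intro a ha b hb
      rcases D.eq_of_π hb.symm with e | e <;> rw [e]
      exacts [ha, Commute.mul_right ha hz]
    have hadd : ∀ u v, P u → P v → P (u + v) := by
      intro u v hu hv a ha
      obtain ⟨b, hb⟩ := D.π_surj u
      obtain ⟨c, hc⟩ := D.π_surj v
      rcases D.eq_of_π (a := b * c) (b := a) (by rw [D.π_mul, hb, hc, ha]) with e | e <;> rw [e]
      exacts [(hu b hb).mul_right (hv c hc), ((hu b hb).mul_right (hv c hc)).mul_right hz]
    have g1 := e1 ▸ hP a1 hk.1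
    have g2 := e2 ▸ hP a2 hk.2.1
    have g3 := e3 ▸ hP a3 hk.2.2.1
    have g4 := e4 ▸ hP a4 hk.2.2.2.1
    have g5 := e5 ▸ hP a5 hk.2.2.2.2.1
    have g6 := e6 ▸ hP a6 hk.2.2.2.2.2
    have g0 : P 0 := fun a ha => by
      rcases (D.π_eq_zero a).1 ha with e | e <;> rw [show val a = _ from e]
      exacts [Commute.one_right _, hz]
    have hdec : ∀ c : F4, c = 0 ∨ c = 1 ∨ c = om ∨ c = 1 + om := by decide +kernel
    have hax : ∀ (E : F4 → V6), (∀ c d, E (c + d) = E c + E d) → P (E 0) → P (E 1) → P (E om) → ∀ c, P (E c) := by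
      intro E hE p0 p1 po c
      rcases hdec c with rfl | rfl | rfl | rfl
      exacts [p0, p1, po, hE 1 om ▸ hadd _ _ p1 po]
    have z3 : w3 0 0 0 = (0 : V6) := funext fun i => by fin_cases i <;> rfl
    have hall : ∀ a b c, P (w3 a b c) := by
      intro a b c
      have e : w3 a b c = w3 a 0 0 + w3 0 b 0 + w3 0 0 c := by
        funext i; fin_cases i <;> simp [w3]
      rw [e]
      refine hadd _ _ (hadd _ _ ?_ ?_) ?_
      · exact hax (fun c => w3 c 0 0) (fun c d => funext fun i => by fin_cases i <;> simp [w3]) (z3 ▸ g0) g1 g2 a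
      · exact hax (fun c => w3 0 c 0) (fun c d => funext fun i => by fin_cases i <;> simp [w3]) (z3 ▸ g0) g3 g4 b
      · exact hax (fun c => w3 0 0 c) (fun c d => funext fun i => by fin_cases i <;> simp [w3]) (z3 ▸ g0) g5 g6 c
    refine mem_centralizer_iff.2 ?_
    rintro _ ⟨a, rfl, ha⟩
    exact (hall _ _ _ a (w3_eq ha).symm).eq.symm
  have hle : Nat.card I ≤ Nat.card (A0 D) :=
    Nat.card_le_card_of_injective (fun k : I => (⟨((k.1 : HH) : G), hIA _ k.2⟩ : A0 D))
      fun a b h => Subtype.ext (Subtype.ext (Subtype.ext (congrArg (fun u : A0 D => (u : G)) h)))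
  have h := Subgroup.index_mul_card I
  rw [hK] at h
  nlinarith

/-- The projection on the centraliser. -/
noncomputable def bar : A0 D →* HH ⧸ Q := (mk).comp (Subgroup.inclusion (A0_le_cz D))

theorem bar_mem (a : A0 D) : bar D a ∈ fixW D.T := mk_fix D a.2

theorem bar_eq_one {a : A0 D} : bar D a = 1 ↔ (a : G) ∈ R0 D := by
  constructor
  · intro h
    exact A0_inf_Q D (c := Subgroup.inclusion (A0_le_cz D) a) a.2 ((QuotientGroup.eq_one_iff _).1 h)
  · rintro ⟨q, hq, -⟩
    refine (QuotientGroup.eq_one_iff _).2 ?_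
    rw [show Subgroup.inclusion (A0_le_cz D) a = (q : HH) from Subtype.ext hq.symm]
    exact q.2

theorem bar_mk (a : A0 D) : bar D a = mk ⟨a.1, A0_le_cz D a.2⟩ := rfl

variable (hinv : ∃ y, y * D.T.x * y⁻¹ = D.T.x⁻¹)

include hinv in
theorem card_A0 : Nat.card (A0 D) = 2 ^ 11 ∧ (bar D).range = fixW D.T := by
  have h := Subgroup.card_mul_index (bar D).ker
  rw [Subgroup.index_ker] at h
  have hk : Nat.card (bar D).ker = 128 := by
    rw [← card_R0 D]
    exact Nat.card_eq_of_bijective (fun a : (bar D).ker => (⟨a.1.1, (bar_eq_one D).1 a.2⟩ : R0 D))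
      ⟨fun a b e => Subtype.ext (Subtype.ext (congrArg (fun u : R0 D => (u : G)) e)),
        fun r => ⟨⟨⟨r.1, R0_le_A0 D r.2⟩, (bar_eq_one D).2 r.2⟩, rfl⟩⟩
  have hle : (bar D).range ≤ fixW D.T := by rintro _ ⟨a, rfl⟩; exact bar_mem D a
  have h2 := Subgroup.card_le_of_le hle
  rw [card_fixW D.T hinv] at h2
  rw [hk] at h
  have h3 := card_A0_ge D hinv
  have h4 : Nat.card (bar D).range = 16 := by nlinarith
  exact ⟨by rw [← h, h4]; norm_num, Subgroup.eq_of_le_of_card_ge hle (by rw [h4, card_fixW D.T hinv])⟩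

include hinv in
theorem exists_over {t : HH ⧸ Q} (ht : t ∈ fixW D.T) : ∃ a : A0 D, bar D a = t :=
  MonoidHom.mem_range.1 ((card_A0 D hinv).2 ▸ ht)

/-! ### The normaliser -/

/-- The preimage of the stabiliser of the plane. -/
def N0 : Subgroup G := ((nbar D.T).comap mk).map (Subgroup.subtype HH)

theorem mem_N0 {g : G} : g ∈ N0 D ↔ ∃ c : HH, mk c ∈ nbar D.T ∧ (c : G) = g :=
  ⟨fun ⟨c, hc, e⟩ => ⟨c, hc, e⟩, fun ⟨c, hc, e⟩ => ⟨c, hc, e⟩⟩

theorem N0_conj_R0 {g r : G} (hg : g ∈ N0 D) (hr : r ∈ R0 D) : g * r * g⁻¹ ∈ R0 D := by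
  obtain ⟨c, hc, rfl⟩ := (mem_N0 D).1 hg
  obtain ⟨a, rfl, ha⟩ := hr
  exact ⟨MulAut.conjNormal c a, rfl, by rw [D.act]; exact hc _ ha⟩

theorem N0_conj_A0 {g a : G} (hg : g ∈ N0 D) (ha : a ∈ A0 D) : g * a * g⁻¹ ∈ A0 D := by
  refine mem_centralizer_iff.2 fun r hr => ?_
  have h := mem_centralizer_iff.1 ha _ (N0_conj_R0 D (inv_mem hg) hr)
  rw [inv_inv] at h
  calc r * (g * a * g⁻¹) = g * (g⁻¹ * r * g * a) * g⁻¹ := by group
    _ = g * (a * (g⁻¹ * r * g)) * g⁻¹ := by rw [h]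
    _ = g * a * g⁻¹ * r := by group

theorem N0_fix_z {g : G} (hg : g ∈ N0 D) : g * z * g⁻¹ = z := by
  obtain ⟨c, -, rfl⟩ := (mem_N0 D).1 hg
  exact mul_inv_eq_iff_eq_mul.2 (mem_centralizer_singleton_iff.1 c.2)

theorem N0_le_normalizer : N0 D ≤ normalizer (A0 D : Set G) := by
  intro g hg
  refine mem_normalizer_iff.2 fun a => ⟨N0_conj_A0 D hg, fun h => ?_⟩
  have := N0_conj_A0 D (inv_mem hg) h
  simpa [mul_assoc] using this

theorem QG_le_N0 : Q.map (Subgroup.subtype HH) ≤ N0 D := by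
  refine map_mono fun q hq => ?_
  show mk q ∈ nbar D.T
  rw [(show mk q = 1 from (QuotientGroup.eq_one_iff q).2 hq)]
  exact one_mem _

theorem card_N0 : Nat.card (N0 D) = Nat.card (nbar D.T) * 2 ^ 13 := by
  rw [N0, card_map_of_injective (Subgroup.subtype_injective _)]
  have h := Subgroup.index_mul_card ((nbar D.T).comap mk)
  rw [Subgroup.index_comap_of_surjective _ (QuotientGroup.mk'_surjective Q)] at h
  have h1 := Subgroup.index_mul_card (nbar D.T)
  rw [D.T.card] at h1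
  have h2 := Subgroup.card_eq_card_quotient_mul_card_subgroup Q
  rw [D.T.card, D.cardQ] at h2
  rw [h2, ← h1, mul_assoc] at h
  exact Nat.eq_of_mul_eq_mul_left (Nat.pos_of_ne_zero Subgroup.index_ne_zero_of_finite) h

/-! ### An element over the scalar -/

theorem x_cube : D.T.x ^ 3 = 1 := by
  refine D.T.inj (LinearEquiv.ext fun a => ?_)
  rw [map_one, pow_succ, pow_succ, pow_one, map_mul, map_mul]
  show D.T.r D.T.x (D.T.r D.T.x (D.T.r D.T.x a)) = a
  rw [D.T.x_act, D.T.x_act, D.T.x_act, smul_smul, smul_smul, show om * om * om = 1 by decide +kernel, one_smul]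

/-- An element of order three over the scalar. -/
theorem exists_y : ∃ (y : HH) (w : F4), (y : G) ^ 3 = 1 ∧ (w = om ∨ w = om * om) ∧ (y : G) ∈ N0 D ∧
    (∀ t ∈ fixW D.T, mk y * t = t * mk y) ∧
    ∀ a : Q, D.π (MulAut.conjNormal y a) = w • D.π a := by
  obtain ⟨c, hc⟩ := QuotientGroup.mk_surjective D.T.x
  have hc3 : c ^ 3 ∈ Q := (QuotientGroup.eq_one_iff _).1 (by rw [QuotientGroup.mk_pow, hc, x_cube D])
  set n := 2 ^ 13
  have hy : (c ^ n) ^ 3 = 1 := by
    have h := pow_card_eq_one' (x := (⟨c ^ 3, hc3⟩ : Q))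
    rw [D.cardQ] at h
    rw [← pow_mul, mul_comm, pow_mul]
    exact congrArg Subtype.val h
  have hyx : mk (c ^ n) = D.T.x ^ 2 := by
    show QuotientGroup.mk (c ^ n) = _
    rw [QuotientGroup.mk_pow, hc, show n = 3 * 2730 + 2 by norm_num [n], pow_add, pow_mul, x_cube D, one_pow,
      one_mul]
  have hact : ∀ v, D.T.r (mk (c ^ n)) v = (om * om) • v := fun v => by
    rw [hyx, pow_two, D.T.r_mul, D.T.x_act, D.T.x_act, smul_smul]
  refine ⟨c ^ n, om * om, ?_, Or.inr rfl, (mem_N0 D).2 ⟨_, fun a ha => ?_, rfl⟩, fun t ht => ?_,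
    fun a => (D.act _ a).trans (hact _)⟩
  · exact congrArg Subtype.val hy
  · rw [hact]; exact ha.smul _
  · rw [hyx]
    have h : Commute t D.T.x := mul_inv_eq_iff_eq_mul.1 (lin_of_fix D.T ht)
    exact (h.symm.pow_left 2).eq

theorem exists_fixed {y : HH} {w : F4} (hy3 : (y : G) ^ 3 = 1) (hw : w = om ∨ w = om * om)
    (hyN : (y : G) ∈ N0 D) (hyc : ∀ t ∈ fixW D.T, mk y * t = t * mk y)
    (hyπ : ∀ a : Q, D.π (MulAut.conjNormal y a) = w • D.π a) {a : G} (ha : a ∈ A0 D) :
    ∃ r ∈ R0 D, (y : G) * (a * r) * (y : G)⁻¹ = a * r := by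
  let ac : HH := ⟨a, A0_le_cz D ha⟩
  have hkA : a⁻¹ * ((y : G) * a * (y : G)⁻¹) ∈ A0 D := mul_mem (inv_mem ha) (N0_conj_A0 D hyN ha)
  have hk : a⁻¹ * ((y : G) * a * (y : G)⁻¹) ∈ R0 D := by
    refine A0_inf_Q D (c := ac⁻¹ * (y * ac * y⁻¹)) hkA ((QuotientGroup.eq_one_iff _).1 ?_)
    show mk (ac⁻¹ * (y * ac * y⁻¹)) = 1
    simp only [map_mul, map_inv]
    rw [hyc _ (mk_fix D ha)]
    group
  obtain ⟨k, hkv, hkW⟩ := hk
  have hinv' : ∀ w : F4, w = om ∨ w = om * om → ∃ c : F4, c + w * c = 1 := by decide +kernel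
  obtain ⟨c, hc⟩ := hinv' w hw
  obtain ⟨r, hr, hrR⟩ := exists_lift_R0 D (hkW.smul c)
  refine ⟨val r, hrR, ?_⟩
  have e : (y : G) * (a * val r) * (y : G)⁻¹ = a * (val k * val (MulAut.conjNormal y r)) := by
    show _ = a * (val k * ((y : G) * val r * (y : G)⁻¹))
    rw [hkv]; group
  have hπ : D.π (k * MulAut.conjNormal y r) = D.π r := by
    rw [D.π_mul, hyπ, hr]
    funext i
    show D.π k i + w * (c * D.π k i) = c * D.π k i
    linear_combination (-(D.π k i)) * hc + add_self_F4 (w * (c * D.π k i))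
  rcases D.eq_of_π hπ.symm with h | h
  · rw [e]; exact congrArg (a * ·) h
  · exfalso
    have h1 : (y : G) * (a * val r) * (y : G)⁻¹ = a * val r * z := by
      rw [e, mul_assoc]; exact congrArg (a * ·) h
    have hz : (y : G) * z * (y : G)⁻¹ = z := N0_fix_z D hyN
    have h2 : (y : G) * ((y : G) * (a * val r) * (y : G)⁻¹) * (y : G)⁻¹ = a * val r := by
      rw [h1, show (y : G) * (a * val r * z) * (y : G)⁻¹ =
        ((y : G) * (a * val r) * (y : G)⁻¹) * ((y : G) * z * (y : G)⁻¹) by group, h1, hz, mul_assoc _ z z, z_sq D,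
        mul_one]
    have h3 : (y : G) * ((y : G) * ((y : G) * (a * val r) * (y : G)⁻¹) * (y : G)⁻¹) * (y : G)⁻¹ = a * val r := by
      have e3 : (y : G) * y * y = 1 := by rw [← pow_three', hy3]
      calc _ = (y : G) * y * y * (a * val r) * ((y : G) * y * y)⁻¹ := by group
        _ = _ := by rw [e3]; group
    rw [h2, h1] at h3
    exact z_ne D (mul_eq_left.1 h3)

include hinv in
/-- The subgroup is elementary abelian. -/
theorem A0_elementary : (∀ a ∈ A0 D, a * a = 1) ∧ ∀ a ∈ A0 D, ∀ b ∈ A0 D, a * b = b * a := by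
  have hcen : ∀ {a r : G}, a ∈ A0 D → r ∈ R0 D → Commute a r := fun ha hr =>
    (mem_centralizer_iff.1 ha _ hr).symm
  have hsq : ∀ {a r : G}, a ∈ A0 D → r ∈ R0 D → a * r * (a * r) = a * a := by
    intro a r ha hr
    calc a * r * (a * r) = a * (r * a) * r := by group
      _ = a * (a * r) * r := by rw [(hcen ha hr).eq]
      _ = a * a * (r * r) := by group
      _ = a * a := by rw [R0_sq D hr, mul_one]
  obtain ⟨y, w, hy3, hw, hyN, hyc, hyπ⟩ := exists_y D
  have h1z : ∀ a ∈ A0 D, a * a = 1 ∨ a * a = z := by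
    intro a ha
    obtain ⟨r, hr, he⟩ := exists_fixed D hy3 hw hyN hyc hyπ ha
    let c : HH := ⟨a, A0_le_cz D ha⟩
    obtain ⟨k, hkv, hkW⟩ := (mem_R0 D).1 (A0_inf_Q D (c := c * c) (mul_mem ha ha)
      ((QuotientGroup.eq_one_iff _).1 (by
        show mk (c * c) = 1
        rw [map_mul]; exact fix_sq D.T (mk_fix D ha))))
    have hfix : (y : G) * (a * a) * (y : G)⁻¹ = a * a := by
      rw [← hsq ha hr, show (y : G) * (a * r * (a * r)) * (y : G)⁻¹ =
        ((y : G) * (a * r) * (y : G)⁻¹) * ((y : G) * (a * r) * (y : G)⁻¹) by group, he]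
    have h := hyπ k
    rw [show MulAut.conjNormal y k = k from Subtype.ext (Subtype.ext (by
      show (y : G) * val k * (y : G)⁻¹ = val k
      rw [show val k = a * a from hkv]; exact hfix))] at h
    have h0 : D.π k = 0 := funext fun i =>
      (by decide +kernel : ∀ w : F4, w = om ∨ w = om * om → ∀ x : F4, x = w * x → x = 0) w hw _ (congrFun h i)
    rcases (D.π_eq_zero k).1 h0 with e | e
    exacts [Or.inl (hkv.symm.trans e), Or.inr (hkv.symm.trans e)]
  obtain ⟨a0, ha0, h0⟩ := exists_a0 D.T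
  obtain ⟨l0, hl0⟩ := exists_over D hinv ha0
  have hconst : ∀ a : A0 D, (a : G) ∉ R0 D → (a : G) * a = (l0 : G) * l0 := by
    intro a ha
    obtain ⟨g, hg, e⟩ := fix_transitive D.T hinv ha0 h0 (bar_mem D a) (fun e => ha ((bar_eq_one D).1 e))
    obtain ⟨c, rfl⟩ := QuotientGroup.mk'_surjective Q g
    have hcN : (c : G) ∈ N0 D := (mem_N0 D).2 ⟨c, hg, rfl⟩
    let b : A0 D := ⟨(c : G) * l0 * (c : G)⁻¹, N0_conj_A0 D hcN l0.2⟩
    have hb : bar D b = bar D a := by
      rw [bar_mk, show (⟨b.1, A0_le_cz D b.2⟩ : HH) = c * ⟨l0.1, A0_le_cz D l0.2⟩ * c⁻¹ from rfl, map_mul,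
        map_mul, map_inv, ← bar_mk, hl0]
      exact e
    have hr : (b⁻¹ * a : A0 D).1 ∈ R0 D := (bar_eq_one D).1 (by rw [map_mul, map_inv, hb, inv_mul_cancel])
    have hh := hsq b.2 hr
    rw [show (b : G) * (b⁻¹ * a : A0 D).1 = (a : G) from mul_inv_cancel_left _ _] at hh
    rw [hh]
    show (c : G) * l0 * (c : G)⁻¹ * ((c : G) * l0 * (c : G)⁻¹) = _
    rw [show (c : G) * l0 * (c : G)⁻¹ * ((c : G) * l0 * (c : G)⁻¹) = (c : G) * ((l0 : G) * l0) * (c : G)⁻¹ by
      group]
    rcases h1z _ l0.2 with e | e <;> rw [e]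
    · group
    · exact N0_fix_z D hcN
  have hone : (l0 : G) * l0 = 1 := by
    refine (h1z _ l0.2).resolve_right fun hz => ?_
    have hall : ∀ a : A0 D, bar D a ≠ 1 → (a : G) * a = z := fun a ha =>
      (hconst a fun h => ha ((bar_eq_one D).2 h)).trans hz
    have hanti : ∀ a b : A0 D, bar D a ≠ 1 → bar D b ≠ 1 → bar D (a * b) ≠ 1 →
        (a : G) * b = (b : G) * a * z := by
      intro a b ha hb hab
      have h1 := hall _ hab
      have hza : Commute z (a : G) := (hcen a.2 (z_mem_R0 D)).symm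
      have hzb : Commute z (b : G) := (hcen b.2 (z_mem_R0 D)).symm
      have ia : ((a : G))⁻¹ = (a : G) * z := inv_eq_of_mul_eq_one_right (by
        rw [← mul_assoc, hall a ha, z_sq D])
      have ib : ((b : G))⁻¹ = (b : G) * z := inv_eq_of_mul_eq_one_right (by
        rw [← mul_assoc, hall b hb, z_sq D])
      have h2 : (a : G) * b = z * ((b : G)⁻¹ * (a : G)⁻¹) := by
        have h1' : (a : G) * b * ((a : G) * b) = z := h1
        calc (a : G) * b = ((a : G) * b * ((a : G) * b)) * ((b : G)⁻¹ * (a : G)⁻¹) := by group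
          _ = _ := by rw [h1']
      rw [h2, ia, ib]
      calc z * ((b : G) * z * ((a : G) * z)) = (z * (b : G)) * (z * (a : G)) * z := by group
        _ = (b : G) * z * ((a : G) * z) * z := by rw [hzb.eq, hza.eq]
        _ = (b : G) * (z * (a : G)) * (z * z) := by group
        _ = (b : G) * a * z := by rw [z_sq D, mul_one, hza.eq, mul_assoc]
    obtain ⟨s1, hs1, s2, hs2, s3, hs3, d1, d2, d3, d12, d23, d123⟩ : ∃ s1 ∈ fixW D.T, ∃ s2 ∈ fixW D.T,
        ∃ s3 ∈ fixW D.T, s1 ≠ 1 ∧ s2 ≠ 1 ∧ s3 ≠ 1 ∧ s1 * s2 ≠ 1 ∧ s2 * s3 ≠ 1 ∧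
          (s1 * (s2 * s3) ≠ 1 ∧ s1 * s3 ≠ 1) := by
      classical
      haveI : Fintype (fixW D.T) := Fintype.ofFinite _
      have hcard : Fintype.card (fixW D.T) = 16 := by rw [← Nat.card_eq_fintype_card, card_fixW D.T hinv]
      have hpick : ∀ s : Finset (fixW D.T), s.card < 16 → ∃ u, u ∉ s := fun s hs => by
        by_contra h
        push Not at h
        rw [Finset.eq_univ_of_forall h, Finset.card_univ, hcard] at hs
        exact lt_irrefl _ hs
      obtain ⟨u1, hu1⟩ := hpick {1} (by simp)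
      obtain ⟨u2, hu2⟩ := hpick {1, u1} ((Finset.card_le_two).trans_lt (by norm_num))
      obtain ⟨u3, hu3⟩ := hpick {1, u1, u2, u1 * u2} ((Finset.card_le_four).trans_lt (by norm_num))
      simp only [Finset.mem_insert, Finset.mem_singleton, not_or] at hu1 hu2 hu3
      have sq : ∀ u : fixW D.T, u * u = 1 := fun u => Subtype.ext (fix_sq D.T u.2)
      have key : ∀ u v : fixW D.T, (u : _) * (v : HH ⧸ Q) = 1 → u = v := fun u v h =>
        mul_right_cancel ((Subtype.ext h : u * v = 1).trans (sq v).symm)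
      exact ⟨u1, u1.2, u2, u2.2, u3, u3.2, fun h => hu1 (Subtype.ext h), fun h => hu2.1 (Subtype.ext h),
        fun h => hu3.1 (Subtype.ext h), fun h => hu2.2 (key _ _ h).symm, fun h => hu3.2.2.1 (key _ _ h).symm,
        fun h => hu3.2.2.2 (mul_right_cancel (((mul_assoc u1 u2 u3).trans
          (Subtype.ext h : u1 * (u2 * u3) = 1)).trans (sq u3).symm)).symm, fun h => hu3.2.1 (key _ _ h).symm⟩
    obtain ⟨a, ha⟩ := exists_over D hinv hs1
    obtain ⟨b, hb⟩ := exists_over D hinv hs2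
    obtain ⟨c, hc⟩ := exists_over D hinv hs3
    have A := hanti a (b * c) (by rwa [ha]) (by rw [map_mul, hb, hc]; exact d23)
      (by rw [map_mul, map_mul, ha, hb, hc]; exact d123.1)
    have B := hanti a b (by rwa [ha]) (by rwa [hb]) (by rw [map_mul, ha, hb]; exact d12)
    have C' := hanti a c (by rwa [ha]) (by rwa [hc]) (by rw [map_mul, ha, hc]; exact d123.2)
    have hzc : Commute z (c : G) := (hcen c.2 (z_mem_R0 D)).symm
    refine z_ne D (mul_eq_left.1 (A.symm.trans ?_ : (b : G) * c * a * z = (b : G) * c * a))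
    calc (a : G) * ((b * c : A0 D) : G) = (a : G) * b * c := (mul_assoc _ _ _).symm
      _ = (b : G) * a * z * c := by rw [B]
      _ = (b : G) * a * (z * c) := by group
      _ = (b : G) * ((a : G) * c) * z := by rw [hzc.eq]; group
      _ = (b : G) * ((c : G) * a * z) * z := by rw [C']
      _ = (b : G) * c * a * (z * z) := by group
      _ = (b : G) * c * a := by rw [z_sq D, mul_one]
  have hexp : ∀ a ∈ A0 D, a * a = 1 := by
    intro a ha
    by_cases hR : a ∈ R0 D
    · exact R0_sq D hR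
    · rw [hconst ⟨a, ha⟩ hR, hone]
  refine ⟨hexp, fun a ha b hb => ?_⟩
  have i : ∀ u ∈ A0 D, u⁻¹ = u := fun u hu => inv_eq_of_mul_eq_one_right (hexp u hu)
  rw [← i _ (mul_mem ha hb), mul_inv_rev, i a ha, i b hb]

end CfsgLib.FiLarge.Thom
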