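import Cfsg.Agent.FiLarge.Thom.Frame

/-!
The pointwise stabiliser of the standard plane and the transitivity of its normaliser.
-/

set_option autoImplicit false
set_option maxRecDepth 100000
set_option linter.style.haveILetI false

namespace CfsgLib.FiLarge.Thom

open CfsgLib Subgroup Matrix

variable {C : Type*} [Group C] [Finite C] (T : Std C)

/-- The setwise stabiliser of the plane. -/
def nbar : Subgroup C where
  carrier := {c | ∀ a, InW a → InW (T.r c a)}
  one_mem' := fun a ha => by rwa [T.r_one]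
  mul_mem' := fun {c d} (hc : ∀ a, InW a → InW (T.r c a)) (hd : ∀ a, InW a → InW (T.r d a)) a ha => by
    rw [T.r_mul]; exact hc _ (hd _ ha)
  inv_mem' := fun {c} (hc : ∀ a, InW a → InW (T.r c a)) => by
    have h : ∀ n : ℕ, ∀ a, InW a → InW (T.r (c ^ n) a) := by
      intro n
      induction n with
      | zero => intro a ha; rwa [pow_zero, T.r_one]
      | succ n ih => intro a ha; rw [pow_succ, T.r_mul]; exact ih _ (hc _ ha)
    intro a ha
    have e : c⁻¹ = c ^ (orderOf c - 1) := inv_eq_of_mul_eq_one_left (by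
      rw [← pow_succ, Nat.sub_add_cancel (orderOf_pos c), pow_orderOf_eq_one])
    rw [e]; exact h _ a ha

/-- The pointwise stabiliser of the plane. -/
def fixW : Subgroup C where
  carrier := {c | ∀ a, InW a → T.r c a = a}
  one_mem' := fun a _ => T.r_one a
  mul_mem' := fun {c d} (hc : ∀ a, InW a → T.r c a = a) (hd : ∀ a, InW a → T.r d a = a) a ha => by
    rw [T.r_mul, hd a ha, hc a ha]
  inv_mem' := fun {c} (hc : ∀ a, InW a → T.r c a = a) a ha => by
    conv_lhs => rw [← hc a ha]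
    rw [← T.r_mul, inv_mul_cancel, T.r_one]

theorem mem_fixW {c : C} : c ∈ fixW T ↔ ∀ a, InW a → T.r c a = a := Iff.rfl

theorem mem_nbar {c : C} : c ∈ nbar T ↔ ∀ a, InW a → InW (T.r c a) := Iff.rfl

theorem fixW_le_nbar : fixW T ≤ nbar T := fun c hc a ha => by rw [hc a ha]; exact ha

theorem nbar_conj {c a : C} (hc : c ∈ nbar T) (ha : a ∈ fixW T) : c * a * c⁻¹ ∈ fixW T := fun w hw => by
  rw [T.r_mul, T.r_mul, ha _ ((nbar T).inv_mem hc w hw), ← T.r_mul, mul_inv_cancel, T.r_one]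

theorem v2_w3 : v2 = w3 1 0 0 := by
  funext i; fin_cases i <;> rfl

/-- The class of full support in the short orbit. -/
theorem exists_class : ∃ k : Fin 5, 2 ≤ k ∧ ∀ a, InW a → (a ∈ T.orb ⊤ v2 ↔ Sml k a) := by
  obtain ⟨I, hsum, hI, h | h⟩ := T.exists_I (le_top : T.M ≤ ⊤) Std.v2_sing.1 Std.v2_sing.2
  swap
  · exact absurd ((hI 0).2 (T.mem_orb.2 ⟨1, one_mem _, T.r_one _⟩)) h.1
  obtain ⟨k, hk, hIk⟩ := (by decide +kernel : ∀ I : Finset (Fin 5), 0 ∈ I → ∑ j ∈ I, sizeK j = 378 →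
      ∃ k : Fin 5, 2 ≤ k ∧ ∀ j, j ∈ I ↔ (j = 0 ∨ j = k)) I h.1 (hsum.symm.trans h.2.1)
  refine ⟨k, hk, fun a ha => ?_⟩
  by_cases h0 : a = 0
  · subst h0
    refine iff_of_false (fun hin => ?_) ?_
    · obtain ⟨c, -, hc⟩ := T.mem_orb.1 hin
      exact Std.v2_sing.2 ((LinearEquiv.map_eq_zero_iff _).1 hc)
    · have hz : w3 0 0 0 = (0 : V6) := funext fun i => by fin_cases i <;> rfl
      exact hz ▸ sml_zero k
  obtain ⟨j, hj⟩ := Option.isSome_iff_exists.1 ((singular_iff a).1 ⟨qn_inW ha, h0⟩)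
  obtain ⟨d, -, hd⟩ := T.exists_mono hj
  have : a ∈ T.orb ⊤ v2 ↔ j ∈ I := by
    rw [hI]
    constructor <;> intro h' <;> obtain ⟨c, -, hc⟩ := T.mem_orb.1 h'
    · exact T.mem_orb.2 ⟨d⁻¹ * c, mem_top _, by rw [T.r_mul, hc, ← hd, ← T.r_mul, inv_mul_cancel, T.r_one]⟩
    · exact T.mem_orb.2 ⟨d * c, mem_top _, by rw [T.r_mul, hc, hd]⟩
  rw [this, hIk]
  constructor
  · rintro (e | e)
    exacts [⟨ha, Or.inl (hj.trans (congrArg some e))⟩, ⟨ha, Or.inr (hj.trans (congrArg some e))⟩]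
  · rintro ⟨-, e | e⟩
    exacts [Or.inl (Option.some_injective _ (hj.symm.trans e)), Or.inr (Option.some_injective _ (hj.symm.trans e))]

theorem orb_closed {c : C} {a : V6} (ha : a ∈ T.orb ⊤ v2) : T.r c a ∈ T.orb ⊤ v2 := by
  obtain ⟨d, -, hd⟩ := T.mem_orb.1 ha
  exact T.mem_orb.2 ⟨c * d, mem_top _, by rw [T.r_mul, hd]⟩

theorem orb_closed_iff {c : C} {a : V6} : T.r c a ∈ T.orb ⊤ v2 ↔ a ∈ T.orb ⊤ v2 :=
  ⟨fun h => by
    have := orb_closed T (c := c⁻¹) h
    rwa [← T.r_mul, inv_mul_cancel, T.r_one] at this, orb_closed T⟩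

variable (hinv : ∃ y, y * T.x * y⁻¹ = T.x⁻¹)

include hinv in
theorem mem_M_of_lin {c : C} (hc : c * T.x * c⁻¹ = T.x) : c ∈ T.M := by
  by_contra hcM
  obtain ⟨y, hy⟩ := hinv
  have hx : T.x ≠ T.x⁻¹ := fun e => by
    have h3 : T.x * T.x = 1 := by conv_lhs => arg 2; rw [e]
                                  exact mul_inv_cancel _
    have h4 := congrArg (fun u => T.r u (dl 0) 0) h3
    simp only [T.r_mul, T.x_act, T.r_one] at h4
    revert h4
    decide +kernel
  by_cases hyM : y ∈ T.M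
  · rw [T.lin hyM] at hy; exact hx hy
  · have hm : c * y ∈ T.M := by
      rw [Subgroup.mul_mem_iff_of_index_two T.idx]
      exact iff_of_false hcM hyM
    have h := T.lin hm
    rw [show c * y * T.x * (c * y)⁻¹ = c * (y * T.x * y⁻¹) * c⁻¹ by group, hy,
      show c * T.x⁻¹ * c⁻¹ = (c * T.x * c⁻¹)⁻¹ by group, hc] at h
    exact hx h.symm

theorem lin_of_fix {c : C} (hc : c ∈ fixW T) : c * T.x * c⁻¹ = T.x := by
  refine (T.semi c).resolve_right fun h => ?_
  have e := T.semilinear_inv h om (w3 1 0 0)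
  rw [hc _ ((inW_w3 _ _ _).smul om), hc _ (inW_w3 _ _ _)] at e
  have := congrFun e 0
  revert this
  decide +kernel

include hinv in
theorem fixW_le_lstab {c : C} (hc : c ∈ fixW T) : c ∈ T.lstab :=
  ⟨by show T.r c v2 = v2; rw [v2_w3]; exact hc _ (inW_w3 _ _ _), mem_M_of_lin T hinv (lin_of_fix T hc)⟩

theorem fix_sub_mem {c : C} (hc : c ∈ fixW T) (a : V6) : InW (T.r c a + a) := by
  refine inW_of_herm fun w hw => ?_
  have h := T.herm_r (lin_of_fix T hc) a w
  rw [hc w hw] at h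
  rw [herm_add, h, add_self_F4]

theorem fix_sq {c : C} (hc : c ∈ fixW T) : c * c = 1 := by
  refine T.inj (LinearEquiv.ext fun a => ?_)
  rw [map_one, map_mul]
  show T.r c (T.r c a) = a
  have h := hc _ (fix_sub_mem T hc a)
  rw [map_add] at h
  exact add_right_cancel (h.trans (add_comm _ _))

theorem fix_comm {c d : C} (hc : c ∈ fixW T) (hd : d ∈ fixW T) : c * d = d * c := by
  have h := fix_sq T (mul_mem hc hd)
  have h1 : c⁻¹ = c := inv_eq_of_mul_eq_one_right (fix_sq T hc)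
  have h2 : d⁻¹ = d := inv_eq_of_mul_eq_one_right (fix_sq T hd)
  rw [← inv_eq_of_mul_eq_one_right h, _root_.mul_inv_rev, h1, h2]

/-! ### The tail matrices -/

theorem tail_w3 (b c : F4) (a : F4) : (fun j => w3 a b c (tl j)) = fun i => ![b, b, c, c] i := by
  funext i; fin_cases i <;> rfl

theorem mat_of_fix {c : C} (hc : c ∈ fixW T) (hl : c ∈ T.lstab) :
    T.mat4S c *ᵥ tv2 = tv2 ∧ T.mat4S c *ᵥ tv3 = tv3 := by
  constructor <;> funext i
  · have h := T.rest hl (inW_w3 0 1 0).1 i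
    rw [hc _ (inW_w3 _ _ _), tail_w3] at h
    calc (T.mat4S c *ᵥ tv2) i = w3 0 1 0 (tl i) := h.symm
      _ = tv2 i := by fin_cases i <;> rfl
  · have h := T.rest hl (inW_w3 0 0 1).1 i
    rw [hc _ (inW_w3 _ _ _), tail_w3] at h
    calc (T.mat4S c *ᵥ tv3) i = w3 0 0 1 (tl i) := h.symm
      _ = tv3 i := by fin_cases i <;> rfl

include hinv in
theorem exists_umat {c : C} (hc : c ∈ fixW T) : ∃ h, T.mat4S c = umat h := by
  have hl := fixW_le_lstab T hinv hc
  refine umat_shape (fun k m => ?_) (mat_of_fix T hc hl).1 (mat_of_fix T hc hl).2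
  have h := T.mat4S_herm hl (Pi.single k 1) (Pi.single m 1)
  simp only [Cfsg.hermForm, Fin.sum_univ_four] at h
  rw [Matrix.mulVec_single_one, Matrix.mulVec_single_one] at h
  refine h.trans ?_
  fin_cases k <;> fin_cases m <;> simp

/-- The element of the stabiliser over a matrix. -/
noncomputable def ovr (M : Matrix (Fin 4) (Fin 4) F4) (hM : IsU M) : C :=
  ((T.toSU_bijective.2 (suElt M hM)).choose : T.lstab)

theorem ovr_lstab (M : Matrix (Fin 4) (Fin 4) F4) (hM : IsU M) : ovr T M hM ∈ T.lstab :=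
  ((T.toSU_bijective.2 (suElt M hM)).choose).2

theorem ovr_spec (M : Matrix (Fin 4) (Fin 4) F4) (hM : IsU M) :
    T.toSU ⟨ovr T M hM, ovr_lstab T M hM⟩ = suElt M hM :=
  (T.toSU_bijective.2 (suElt M hM)).choose_spec

theorem ovr_mat (M : Matrix (Fin 4) (Fin 4) F4) (hM : IsU M) :
    ∃ d : F4, d ≠ 0 ∧ T.mat4S (ovr T M hM) = d • M := by
  have h := congrArg (fun y : Cfsg.SU 4 F4 2 => (y.1 : Matrix (Fin 4) (Fin 4) F4)) (ovr_spec T M hM)
  change (T.mat4S (ovr T M hM)).det⁻¹ • T.mat4S (ovr T M hM) = M at h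
  refine ⟨(T.mat4S (ovr T M hM)).det, T.det_ne (ovr_lstab T M hM), ?_⟩
  conv_rhs => arg 2; rw [← h]
  rw [smul_smul, mul_inv_cancel₀ (T.det_ne (ovr_lstab T M hM)), one_smul]

theorem eq_of_toSU {g h : C} (hg : g ∈ T.lstab) (hh : h ∈ T.lstab)
    (e : T.toSU ⟨g, hg⟩ = T.toSU ⟨h, hh⟩) : g = h :=
  congrArg Subtype.val (T.toSU_bijective.1 e)

theorem ovr_nbar {M : Matrix (Fin 4) (Fin 4) F4} (hM : IsU M)
    (h2 : (M *ᵥ tv2) 0 = (M *ᵥ tv2) 1 ∧ (M *ᵥ tv2) 2 = (M *ᵥ tv2) 3)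
    (h3 : (M *ᵥ tv3) 0 = (M *ᵥ tv3) 1 ∧ (M *ᵥ tv3) 2 = (M *ᵥ tv3) 3) : ovr T M hM ∈ nbar T := by
  obtain ⟨d, -, hd⟩ := ovr_mat T M hM
  intro a ha
  have hl := ovr_lstab T M hM
  have key : ∀ i, T.r (ovr T M hM) a (tl i) = d * (a 2 * (M *ᵥ tv2) i + a 4 * (M *ᵥ tv3) i) := by
    intro i
    rw [T.rest hl ha.1, hd]
    simp only [Matrix.mulVec, dotProduct, Fin.sum_univ_four, Matrix.smul_apply, smul_eq_mul, tv2, tv3, tl,
      Matrix.cons_val_zero, Matrix.cons_val_one, Matrix.cons_val]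
    simp only [Fin.isValue, ha.2.1, ha.2.2]
    have e2 : a ⟨2, by omega⟩ = a 2 := rfl
    have e3 : a ⟨3, by omega⟩ = a 3 := rfl
    have e4 : a ⟨4, by omega⟩ = a 4 := rfl
    have e5 : a ⟨5, by omega⟩ = a 5 := rfl
    simp [e2, e3, e4, e5, ha.2.1, ha.2.2]
    ring
  refine ⟨T.balanced hl ha.1, ?_, ?_⟩
  · exact (key 0).trans ((by rw [h2.1, h3.1] : _ = _).trans (key 1).symm)
  · exact (key 2).trans ((by rw [h2.2, h3.2] : _ = _).trans (key 3).symm)

theorem ovr_fix (h : Hx) : ovr T (umat h) (umat_isU h) ∈ fixW T := by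
  set g := ovr T (umat h) (umat_isU h) with hg
  have hl := ovr_lstab T (umat h) (umat_isU h)
  obtain ⟨d, hd0, hd⟩ := ovr_mat T (umat h) (umat_isU h)
  obtain ⟨k, hk, hS⟩ := exists_class T
  have hn : g ∈ nbar T := ovr_nbar T (umat_isU h) (by rw [(umat_fix h).1]; exact ⟨rfl, rfl⟩)
    (by rw [(umat_fix h).2]; exact ⟨rfl, rfl⟩)
  have hlin := T.lin hl.2
  have key : ∀ b c, ∃ a, T.r g (w3 0 b c) = w3 a (d * b) (d * c) := by
    intro b c
    have hw := hn _ (inW_w3 0 b c)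
    refine ⟨T.r g (w3 0 b c) 0, ?_⟩
    have t : ∀ i, T.r g (w3 0 b c) (tl i) = d * (![b, b, c, c] i) := fun i => by
      rw [T.rest hl rfl, hd, tail_w3, Matrix.smul_mulVec, Pi.smul_apply, smul_eq_mul]
      have : (![b, b, c, c] : Fin 4 → F4) = b • tv2 + c • tv3 := by
        funext j; fin_cases j <;> simp [tv2, tv3]
      rw [this, Matrix.mulVec_add, Matrix.mulVec_smul, Matrix.mulVec_smul, (umat_fix h).1, (umat_fix h).2]
    conv_lhs => rw [← w3_eq hw]
    congr 1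
    exacts [t 0, t 2]
  obtain ⟨a2, e2⟩ := key 1 0
  obtain ⟨a3, e3⟩ := key 0 1
  rw [mul_one, mul_zero] at e2
  rw [mul_zero, mul_one] at e3
  have hs : ∀ w, Sml k w → Sml k (T.r g w) := fun w hw =>
    (hS _ (hn w hw.1)).1 (orb_closed T ((hS w hw.1).2 hw))
  have z2 := (sml_first k hk a2 d hd0).1 (e2 ▸ hs _ (sml_axis k 1 one_ne_zero).2.1)
  have z3 := (sml_first k hk a3 d hd0).2 (e3 ▸ hs _ (sml_axis k 1 one_ne_zero).2.2)
  subst z2 z3
  have e1 : T.r g (w3 1 0 0) = w3 1 0 0 := v2_w3 ▸ hl.1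
  have split : ∀ a b c, w3 a b c = a • w3 1 0 0 + b • w3 0 1 0 + c • w3 0 0 1 := by
    intro a b c; funext i; fin_cases i <;> simp [w3]
  have img : ∀ a b c, T.r g (w3 a b c) = w3 a (d * b) (d * c) := by
    intro a b c
    rw [split a b c, map_add, map_add, T.semilinear hlin, T.semilinear hlin, T.semilinear hlin, e1, e2, e3]
    funext i; fin_cases i <;> simp [w3, mul_comm]
  obtain ⟨c0, -, hc0, hsc⟩ := sml_scale k hk
  have hd1 : d = 1 := hsc d hd0 (by
    have := hs _ hc0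
    rwa [img, mul_one] at this)
  intro w hw
  rw [← w3_eq hw, img, hd1, one_mul, one_mul]

theorem mat_ovr_fix (h : Hx) : T.mat4S (ovr T (umat h) (umat_isU h)) = umat h := by
  obtain ⟨d, -, hd⟩ := ovr_mat T (umat h) (umat_isU h)
  have := (mat_of_fix T (ovr_fix T h) (ovr_lstab T _ _)).1
  rw [hd, Matrix.smul_mulVec, (umat_fix h).1] at this
  have := congrFun this 0
  simp only [Pi.smul_apply, smul_eq_mul, tv2, Matrix.cons_val_zero, mul_one] at this
  rw [hd, this, one_smul]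

include hinv in
theorem eq_ovr {c : C} (hc : c ∈ fixW T) {h : Hx} (e : T.mat4S c = umat h) :
    c = ovr T (umat h) (umat_isU h) := by
  refine eq_of_toSU T (fixW_le_lstab T hinv hc) (ovr_lstab T _ _) ?_
  rw [ovr_spec]
  refine Subtype.ext (Subtype.ext ?_)
  show (T.mat4S c).det⁻¹ • T.mat4S c = umat h
  rw [e, (det4_eq _).trans (umat_isU h).1, inv_one, one_smul]

include hinv in
theorem card_fixW : Nat.card (fixW T) = 16 := by
  have hb : Function.Bijective (fun h : Hx => (⟨_, ovr_fix T h⟩ : fixW T)) := by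
    constructor
    · intro h h' e
      have := congrArg (fun c : fixW T => T.mat4S c.1) e
      simp only [mat_ovr_fix] at this
      exact umat_inj h h' this
    · rintro ⟨c, hc⟩
      obtain ⟨h, e⟩ := exists_umat T hinv hc
      exact ⟨h, Subtype.ext (eq_ovr T hinv hc e).symm⟩
  rw [← Nat.card_eq_of_bijective _ hb, Nat.card_eq_fintype_card]
  rfl

/-- The elements of the normaliser over the three matrices. -/
noncomputable def gen (i : Fin 3) : C := ovr T (gmat i) (gmat_isU i)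

theorem gen_nbar (i : Fin 3) : gen T i ∈ nbar T :=
  ovr_nbar T _ ⟨(gmat_plane i).1, (gmat_plane i).2.1⟩ (gmat_plane i).2.2

theorem gen_step (i : Fin 3) (h : Hx) :
    gen T i * ovr T (umat h) (umat_isU h) = ovr T (umat (step i h)) (umat_isU _) * gen T i := by
  refine eq_of_toSU T (mul_mem (ovr_lstab T _ _) (ovr_lstab T _ _))
    (mul_mem (ovr_lstab T _ _) (ovr_lstab T _ _)) ?_
  show T.toSU (⟨gen T i, ovr_lstab T _ _⟩ * ⟨_, ovr_lstab T _ _⟩) =
    T.toSU (⟨_, ovr_lstab T _ _⟩ * ⟨gen T i, ovr_lstab T _ _⟩)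
  simp only [gen, map_mul, ovr_spec]
  exact Subtype.ext (Subtype.ext (gmat_step i h))

/-- The double transpositions. -/
def tau0 : Equiv.Perm (Fin 6) := Equiv.swap 0 1 * Equiv.swap 2 3

/-- The second double transposition. -/
def tau1 : Equiv.Perm (Fin 6) := Equiv.swap 2 3 * Equiv.swap 4 5

theorem exists_a0 : ∃ a0 ∈ fixW T, ∀ a, T.r a0 a = ![a 1, a 0, a 3, a 2, a 4, a 5] := by
  obtain ⟨c, -, hc⟩ := T.perm tau0 (by decide)
  have e : ∀ a : V6, (fun i => a (tau0 i)) = ![a 1, a 0, a 3, a 2, a 4, a 5] := fun a => by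
    funext i; fin_cases i <;> rfl
  refine ⟨c, fun w hw => ?_, fun a => (hc a).trans (e a)⟩
  rw [hc, e]
  funext i
  fin_cases i <;> simp [hw.1, hw.2.1]

include hinv in
theorem fix_transitive {a0 : C} (ha0 : a0 ∈ fixW T) (h0 : ∀ a, T.r a0 a = ![a 1, a 0, a 3, a 2, a 4, a 5])
    {a : C} (ha : a ∈ fixW T) (ha1 : a ≠ 1) : ∃ g ∈ nbar T, g * a0 * g⁻¹ = a := by
  obtain ⟨t, -, ht⟩ := T.perm tau1 (by decide)
  obtain ⟨s, -, hs⟩ := T.perm (Equiv.swap 0 2 * Equiv.swap 2 4 * (Equiv.swap 1 3 * Equiv.swap 3 5)) (by decide)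
  have hs' : ∀ a, T.r s a = ![a 2, a 3, a 4, a 5, a 0, a 1] := fun a => by
    rw [hs]; funext i; fin_cases i <;> rfl
  have htf : t ∈ fixW T := fun w hw => by
    have e : (fun i => w (tau1 i)) = ![w 0, w 1, w 3, w 2, w 5, w 4] := by
      funext i; fin_cases i <;> rfl
    rw [ht, e]; funext i; fin_cases i <;> simp [hw.2.1, hw.2.2]
  have hsn : s ∈ nbar T := fun w hw => by
    rw [hs']; exact ⟨hw.2.1, hw.2.2, hw.1⟩
  have hconj : s⁻¹ * a0 * s = t ∨ s * a0 * s⁻¹ = t := by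
    refine Or.inl ?_
    refine inv_mul_eq_of_eq_mul ?_ |> fun h => by rw [mul_assoc]; exact h
    refine T.inj (LinearEquiv.ext fun a => ?_)
    rw [map_mul, map_mul]
    show T.r a0 (T.r s a) = T.r s (T.r t a)
    rw [h0, hs', hs', ht]
    funext i; fin_cases i <;> rfl
  obtain ⟨g1, hg1, e1⟩ : ∃ g ∈ nbar T, g * a0 * g⁻¹ = t := by
    rcases hconj with e | e
    · exact ⟨s⁻¹, inv_mem hsn, by rw [inv_inv]; exact e⟩
    · exact ⟨s, hsn, e⟩
  have hm0 : T.mat4S a0 = umat (1, 0, 0) := by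
    refine Matrix.ext fun i j => ?_
    rw [Std.mat4S, Matrix.of_apply, h0]
    fin_cases i <;> fin_cases j <;> decide
  have hm1 : T.mat4S t = umat (1, 0, 1) := by
    refine Matrix.ext fun i j => ?_
    rw [Std.mat4S, Matrix.of_apply, ht]
    fin_cases i <;> fin_cases j <;> decide
  have word : ∀ w : List (Fin 3), ∀ h : Hx, ∃ g ∈ nbar T,
      g * ovr T (umat h) (umat_isU h) * g⁻¹ = ovr T (umat (w.foldr step h)) (umat_isU _) := by
    intro w h
    induction w with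
    | nil => exact ⟨1, one_mem _, by simp⟩
    | cons i w ih =>
      obtain ⟨g, hg, e⟩ := ih
      refine ⟨gen T i * g, mul_mem (gen_nbar T i) hg, ?_⟩
      calc gen T i * g * ovr T (umat h) (umat_isU h) * (gen T i * g)⁻¹
          = gen T i * (g * ovr T (umat h) (umat_isU h) * g⁻¹) * (gen T i)⁻¹ := by group
        _ = _ := by rw [e, mul_inv_eq_iff_eq_mul]; exact gen_step T i _
  obtain ⟨h, e⟩ := exists_umat T hinv ha
  have hne : h ≠ 0 := by
    rintro rfl
    refine ha1 (eq_of_toSU T (fixW_le_lstab T hinv ha) (one_mem _) (Subtype.ext (Subtype.ext ?_)))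
    show (T.mat4S a).det⁻¹ • T.mat4S a = (T.mat4S 1).det⁻¹ • T.mat4S 1
    rw [e, umat_one, T.mat4S_one]
  obtain ⟨w, -, hw | hw⟩ := step_cover h hne
  · obtain ⟨g, hg, eg⟩ := word w (1, 0, 0)
    refine ⟨g, hg, ?_⟩
    rw [eq_ovr T hinv ha e, eq_ovr T hinv ha0 hm0, eg]
    subst hw; rfl
  · obtain ⟨g, hg, eg⟩ := word w (1, 0, 1)
    refine ⟨g * g1, mul_mem hg hg1, ?_⟩
    rw [show g * g1 * a0 * (g * g1)⁻¹ = g * (g1 * a0 * g1⁻¹) * g⁻¹ by group, e1,
      eq_ovr T hinv ha e, eq_ovr T hinv htf hm1, eg]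
    subst hw; rfl

theorem five_dvd : 5 ∣ Nat.card (nbar T) := by
  haveI : Fact (Nat.Prime 5) := ⟨by norm_num⟩
  let g : T.lstab := ⟨gen T 0, ovr_lstab T _ _⟩ * ⟨gen T 1, ovr_lstab T _ _⟩ * ⟨gen T 2, ovr_lstab T _ _⟩
  have hv : ((T.toSU g).1 : Matrix (Fin 4) (Fin 4) F4) = gmat 0 * gmat 1 * gmat 2 := by
    simp only [g, gen, map_mul, ovr_spec]; rfl
  have h5 : T.toSU (g ^ 5) = 1 := by
    refine Subtype.ext (Subtype.ext ?_)
    rw [map_pow, SubgroupClass.coe_pow, Matrix.SpecialLinearGroup.coe_pow, hv]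
    exact gmat_five.1
  have hne : g ≠ 1 := fun e => gmat_five.2 (by rw [← hv, e, map_one]; rfl)
  have ho := orderOf_eq_prime (T.toSU_bijective.1 (h5.trans (map_one _).symm)) hne
  have hm : (g : C) ∈ nbar T := mul_mem (mul_mem (gen_nbar T 0) (gen_nbar T 1)) (gen_nbar T 2)
  rw [← ho, ← orderOf_coe g, ← Subgroup.orderOf_mk (g : C) hm]
  exact orderOf_dvd_natCard _

/-- The shift of the three pairs. -/
def shp (i : Fin 3) (j : Fin 6) : Fin 6 := ⟨(j.val + 2 * i.val) % 6, Nat.mod_lt _ (by norm_num)⟩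

/-- The pair of a coordinate. -/
def prp (j : Fin 6) : Fin 3 := ⟨j.val / 2, by omega⟩

/-- The monomial maps of the normaliser. -/
def mono (p : Fin 3 × (Fin 3 → ZMod 3)) (a : V6) : V6 := fun j => omp (p.2 (prp j)) * a (shp p.1 j)

theorem shp_facts : ∀ i i' : Fin 3, ∀ j, shp i' (shp i j) = shp (i + i') j ∧ prp (shp i j) = prp j + i := by
  decide +kernel

theorem twenty_seven_dvd : 27 ∣ Nat.card (nbar T) := by
  classical
  let P : Type := {p : Fin 3 × (Fin 3 → ZMod 3) // p.2 0 + p.2 1 + p.2 2 = 0}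
  have hex : ∀ p : P, ∃ c, ∀ a, T.r c a = mono p.1 a := by
    rintro ⟨⟨i, v⟩, hv⟩
    obtain ⟨c, -, hc⟩ := T.perm (Equiv.ofBijective (shp i)
      ((by decide +kernel : ∀ i, Function.Bijective (shp i)) i))
      ((by decide +kernel : ∀ i, Equiv.Perm.sign (Equiv.ofBijective (shp i)
        ((by decide +kernel : ∀ i, Function.Bijective (shp i)) i)) = 1) i)
    obtain ⟨d, -, hd⟩ := T.diag (fun j => v (prp j)) (by
      rw [Fin.sum_univ_six]
      show v 0 + v 0 + v 1 + v 1 + v 2 + v 2 = 0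
      linear_combination 2 * hv)
    refine ⟨d * c, fun a => ?_⟩
    rw [T.r_mul, hc, hd]
    rfl
  choose f hf using hex
  let K : Subgroup C :=
    { carrier := Set.range f
      one_mem' := ⟨⟨(0, 0), by simp⟩, T.inj (LinearEquiv.ext fun a => by
        rw [map_one, hf]
        funext j
        show omp 0 * a (shp 0 j) = a j
        rw [omp_zero, one_mul, (by decide +kernel : ∀ j, shp 0 j = j) j])⟩
      mul_mem' := by
        rintro _ _ ⟨⟨⟨i, v⟩, hv⟩, rfl⟩ ⟨⟨⟨i', v'⟩, hv'⟩, rfl⟩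
        refine ⟨⟨(i + i', fun l => v l + v' (l + i)), ?_⟩, T.inj (LinearEquiv.ext fun a => ?_)⟩
        · show v 0 + v' (0 + i) + (v 1 + v' (1 + i)) + (v 2 + v' (2 + i)) = 0
          have e : ∀ (i : Fin 3) (v : Fin 3 → ZMod 3), v (0 + i) + v (1 + i) + v (2 + i) = v 0 + v 1 + v 2 := by
            decide +kernel
          linear_combination hv + hv' + e i v'
        · rw [map_mul, hf]
          show _ = T.r (f _) (T.r (f _) a)
          rw [hf, hf]
          funext j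
          show omp (v (prp j) + v' (prp j + i)) * a (shp (i + i') j) =
            omp (v (prp j)) * (omp (v' (prp (shp i j))) * a (shp i' (shp i j)))
          rw [(shp_facts i i' j).1, (shp_facts i i' j).2, omp_add, mul_assoc]
      inv_mem' := by
        rintro _ ⟨⟨⟨i, v⟩, hv⟩, rfl⟩
        refine ⟨⟨(-i, fun l => -v (l - i)), ?_⟩, eq_inv_of_mul_eq_one_left (T.inj (LinearEquiv.ext fun a => ?_))⟩
        · show -v (0 - i) + -v (1 - i) + -v (2 - i) = 0
          exact (by decide +kernel : ∀ (i : Fin 3) (v : Fin 3 → ZMod 3), v 0 + v 1 + v 2 = 0 →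
            -v (0 - i) + -v (1 - i) + -v (2 - i) = 0) i v hv
        · rw [map_one, map_mul]
          show T.r (f _) (T.r (f _) a) = a
          rw [hf, hf]
          funext j
          show omp (-v (prp j - i)) * (omp (v (prp (shp (-i) j))) * a (shp i (shp (-i) j))) = a j
          rw [(shp_facts (-i) i j).1, (shp_facts (-i) i j).2, ← mul_assoc, ← omp_add, sub_eq_add_neg,
            neg_add_cancel, omp_zero, one_mul, neg_add_cancel, (by decide +kernel : ∀ j, shp 0 j = j) j] }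
  have hK : K ≤ nbar T := by
    rintro _ ⟨⟨⟨i, v⟩, hv⟩, rfl⟩ a ha
    rw [hf, ← w3_eq ha]
    generalize a 0 = x0
    generalize a 2 = x1
    generalize a 4 = x2
    exact (by decide +kernel : ∀ (p : Fin 3 × (Fin 3 → ZMod 3)) (x0 x1 x2 : F4), InW (mono p (w3 x0 x1 x2)))
      _ x0 x1 x2
  have hinj : Function.Injective f := fun p q e => by
    refine Subtype.ext ((by decide +kernel : ∀ p q : Fin 3 × (Fin 3 → ZMod 3),
      (∀ k j, mono p (Pi.single k 1) j = mono q (Pi.single k 1) j) → p = q) p.1 q.1 fun k j => ?_)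
    rw [← hf, ← hf, e]
  have hcard : Nat.card K = 27 := by
    show Nat.card (Set.range f) = 27
    rw [Nat.card_range_of_injective hinj, Nat.card_eq_fintype_card]
    decide +kernel
  rw [← hcard]
  exact Subgroup.card_dvd_of_le hK

end CfsgLib.FiLarge.Thom
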